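/-
A Sylow 2-subgroup whose centre has index four: cosets of the centre, the commutator involution,
and the consequences of quasisimplicity used for fusion arguments.
-/
import Mathlib
import Cfsg.Prelude.Def_CaseTheorems
import Cfsg.Prelude.Def_TwoFusion
import Cfsg.Agent.Lib.Transfer.Central
import Cfsg.Agent.Lib.Involutions.BrauerSuzuki
import Cfsg.Agent.Lib.ProductFusion.Main
import Cfsg.Agent.Lib.Schur.Criteria

set_option autoImplicit false
set_option linter.style.haveILetI false
set_option linter.unusedSectionVars false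

open Subgroup

namespace CfsgLib.GWCons.IndexFour

local instance : Fact (Nat.Prime 2) := ⟨Nat.prime_two⟩

universe u

variable {G : Type u} [Group G]

/-- `Z` is the centre of the Sylow 2-subgroup `P`, of index four, and `c` is the commutator involution. -/
structure Setup (P : Sylow 2 G) (Z : Subgroup G) (c : G) : Prop where
  le : Z ≤ (P : Subgroup G)
  central : ∀ z ∈ Z, ∀ g ∈ (P : Subgroup G), g * z = z * g
  mem_of_comm : ∀ g ∈ (P : Subgroup G), (∀ h ∈ (P : Subgroup G), h * g = g * h) → g ∈ Z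
  cover : ∀ a ∈ (P : Subgroup G), ∀ b ∈ (P : Subgroup G), a * b ≠ b * a →
    ∀ g ∈ (P : Subgroup G), g ∈ Z ∨ g * a⁻¹ ∈ Z ∨ g * b⁻¹ ∈ Z ∨ g * (a * b)⁻¹ ∈ Z
  exists_noncomm : ∃ a ∈ (P : Subgroup G), ∃ b ∈ (P : Subgroup G), a * b ≠ b * a
  c_mem : c ∈ Z
  c_ne : c ≠ 1
  c_sq : c * c = 1
  conj_cases : ∀ g ∈ (P : Subgroup G), ∀ h ∈ (P : Subgroup G), g * h * g⁻¹ = h ∨ g * h * g⁻¹ = h * c

/-- Four cosets of the centre, for a non-commuting pair. -/
theorem cover_of_index {S : Type*} [Group S] [Finite S] (h4 : (center S).index = 4) {a b : S}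
    (hab : a * b ≠ b * a) (g : S) :
    g ∈ center S ∨ g * a⁻¹ ∈ center S ∨ g * b⁻¹ ∈ center S ∨ g * (a * b)⁻¹ ∈ center S := by
  classical
  set Z := center S with hZ
  have hz : ∀ z ∈ Z, ∀ x : S, x * z = z * x := fun z hz x => mem_center_iff.1 hz x
  have key : ∀ u v : S, QuotientGroup.mk' Z u = QuotientGroup.mk' Z v → v * u⁻¹ ∈ Z := by
    intro u v h
    obtain ⟨z, hzm, hzv⟩ := (QuotientGroup.mk'_eq_mk' Z).1 h
    rw [← hzv, hz z hzm u, mul_inv_cancel_right]
    exact hzm
  have na : a ∉ Z := fun h => hab (hz a h b).symm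
  have nb : b ∉ Z := fun h => hab (hz b h a)
  have nab : a * b ∉ Z := fun h => hab (mul_left_cancel (a := a) (by
    rw [hz _ h a, mul_assoc]))
  have nba : b * a⁻¹ ∉ Z := fun h => hab (by
    have h' : a * (b * a⁻¹) = b := by rw [hz _ h a, inv_mul_cancel_right]
    calc a * b = a * (b * a⁻¹) * a := by group
      _ = b * a := by rw [h'])
  let π := QuotientGroup.mk' Z
  have hne : ∀ u v : S, v * u⁻¹ ∉ Z → π u ≠ π v := fun u v h e => h (key u v e)
  let T : Finset (S ⧸ Z) := {π 1, π a, π b, π (a * b)}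
  have h1 : π 1 ≠ π a := hne _ _ (by simpa using na)
  have h2 : π 1 ≠ π b := hne _ _ (by simpa using nb)
  have h3 : π 1 ≠ π (a * b) := hne _ _ (by simpa using nab)
  have h5 : π a ≠ π b := hne _ _ nba
  have h6 : π a ≠ π (a * b) := hne _ _ fun h => hab (by
    have h' : a * b * a⁻¹ = b := mul_left_cancel (a := a) (by rw [hz _ h a, inv_mul_cancel_right])
    exact mul_inv_eq_iff_eq_mul.1 h')
  have h7 : π b ≠ π (a * b) := hne _ _ (by simpa using na)
  haveI := Fintype.ofFinite (S ⧸ Z)
  have hT : T = Finset.univ := by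
    refine Finset.eq_univ_of_card _ ?_
    have e : Fintype.card (S ⧸ Z) = 4 := by rw [← Nat.card_eq_fintype_card, ← h4]; rfl
    rw [e]
    simp only [T]
    rw [Finset.card_insert_of_notMem, Finset.card_insert_of_notMem, Finset.card_insert_of_notMem,
      Finset.card_singleton] <;> simp only [Finset.mem_insert, Finset.mem_singleton, not_or]
    exacts [h7, ⟨h5, h6⟩, ⟨h1, h2, h3⟩]
  have hg : π g ∈ T := hT ▸ Finset.mem_univ _
  simp only [T, Finset.mem_insert, Finset.mem_singleton] at hg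
  rcases hg with h | h | h | h
  · exact Or.inl (by simpa using key _ _ h.symm)
  · exact Or.inr (Or.inl (key _ _ h.symm))
  · exact Or.inr (Or.inr (Or.inl (key _ _ h.symm)))
  · exact Or.inr (Or.inr (Or.inr (key _ _ h.symm)))

/-- Commutators and squares are central, the commutator of a non-commuting pair is an involution,
and every inner automorphism moves elements by at most that involution. -/
theorem exists_comm_involution {S : Type*} [Group S] [Finite S] (h4 : (center S).index = 4) {a b : S}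
    (hab : a * b ≠ b * a) :
    ∃ c ∈ center S, c ≠ 1 ∧ c * c = 1 ∧ ∀ g h : S, g * h * g⁻¹ = h ∨ g * h * g⁻¹ = h * c := by
  set Z := center S with hZ
  have hz : ∀ z ∈ Z, ∀ x : S, x * z = z * x := fun z hz x => mem_center_iff.1 hz x
  let π := QuotientGroup.mk' Z
  have hcard : Nat.card (S ⧸ Z) = 2 ^ 2 := by rw [← index_eq_card, h4]; rfl
  have hcomm : ∀ u v : S, π u * π v = π v * π u := fun u v => by
    letI := IsPGroup.commGroupOfCardEqPrimeSq (p := 2) hcard
    exact mul_comm _ _
  have hsq : ∀ u : S, u * u ∈ Z := by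
    intro u
    rw [← QuotientGroup.eq_one_iff]
    have hd : orderOf (π u) ∣ 2 ^ 2 := hcard ▸ orderOf_dvd_natCard _
    obtain ⟨k, hk, hk'⟩ := (Nat.dvd_prime_pow Nat.prime_two).1 hd
    have hk2 : k ≠ 2 := by
      rintro rfl
      haveI : IsCyclic (S ⧸ Z) := isCyclic_of_orderOf_eq_card (π u) (by rw [hk', hcard])
      exact hab (commutative_of_cyclic_center_quotient π (QuotientGroup.ker_mk' Z).le a b)
    have h2 : π u ^ 2 = 1 := orderOf_dvd_iff_pow_eq_one.1 (hk' ▸ by
      calc 2 ^ k ∣ 2 ^ 1 := pow_dvd_pow 2 (by omega)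
        _ = 2 := pow_one 2)
    rwa [pow_two, ← map_mul] at h2
  obtain ⟨c, hceq⟩ : ∃ c : S, a * b * a⁻¹ = b * c := ⟨b⁻¹ * (a * b * a⁻¹), by group⟩
  have hcZ : c ∈ Z := by
    rw [← QuotientGroup.eq_one_iff]
    have := congrArg π hceq
    rw [map_mul, map_mul, map_inv, map_mul, hcomm, mul_inv_cancel_right, left_eq_mul] at this
    exact this
  have hc1 : c ≠ 1 := fun h => hab (mul_inv_eq_iff_eq_mul.1 (by rw [hceq, h, mul_one]))
  have hac : a * c * a⁻¹ = c := by rw [hz c hcZ a, mul_inv_cancel_right]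
  have hc2 : c * c = 1 := by
    have h2 : (a * a) * b * (a * a)⁻¹ = b := by rw [← hz _ (hsq a) b, mul_inv_cancel_right]
    have h3 : b * (c * c) = b := by
      calc b * (c * c) = b * c * (a * c * a⁻¹) := by rw [hac, mul_assoc]
        _ = a * b * a⁻¹ * (a * c * a⁻¹) := by rw [hceq]
        _ = a * (b * c) * a⁻¹ := by group
        _ = a * (a * b * a⁻¹) * a⁻¹ := by rw [hceq]
        _ = (a * a) * b * (a * a)⁻¹ := by group
        _ = b := h2
    exact mul_left_cancel (h3.trans (mul_one b).symm)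
  have hcinv : c⁻¹ = c := inv_eq_of_mul_eq_one_right hc2
  have hcx : ∀ x : S, x * c = c * x := fun x => hz c hcZ x
  let stab : S → Subgroup S := fun g =>
    { carrier := {h | g * h * g⁻¹ = h ∨ g * h * g⁻¹ = h * c}
      one_mem' := Or.inl (by group)
      mul_mem' := fun {h k} hh hk => by
        have e : g * (h * k) * g⁻¹ = g * h * g⁻¹ * (g * k * g⁻¹) := by group
        rcases hh with hh | hh <;> rcases hk with hk | hk
        · exact Or.inl (by rw [e, hh, hk])
        · exact Or.inr (by rw [e, hh, hk, mul_assoc])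
        · exact Or.inr (by rw [e, hh, hk, mul_assoc, mul_assoc, hcx k])
        · refine Or.inl (by rw [e, hh, hk, mul_assoc h c, ← mul_assoc c k, ← hcx k, mul_assoc k c,
            hc2, mul_one])
      inv_mem' := fun {h} hh => by
        have e : g * h⁻¹ * g⁻¹ = (g * h * g⁻¹)⁻¹ := by group
        rcases hh with hh | hh
        · exact Or.inl (by rw [e, hh])
        · exact Or.inr (by rw [e, hh, mul_inv_rev, hcinv, hcx h⁻¹]) }
  have hgen : ∀ H : Subgroup S, Z ≤ H → a ∈ H → b ∈ H → ∀ g, g ∈ H := by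
    intro H hZH ha hb g
    rcases cover_of_index h4 hab g with h | h | h | h
    · exact hZH h
    · simpa using mul_mem (hZH h) ha
    · simpa using mul_mem (hZH h) hb
    · simpa [mul_assoc] using mul_mem (hZH h) (mul_mem ha hb)
  have hbac : b * a * b⁻¹ = a * c := by
    have h1 : a * b = b * (a * c) := by
      rw [hcx a, ← mul_assoc, ← hceq]; group
    calc b * a * b⁻¹ = b * (a * c) * c⁻¹ * b⁻¹ := by group
      _ = a * b * c * b⁻¹ := by rw [← h1, hcinv]
      _ = a * (b * c) * b⁻¹ := by group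
      _ = a * (c * b) * b⁻¹ := by rw [hcx b]
      _ = a * c := by group
  have hswap : ∀ g h : S, h ∈ stab g → g ∈ stab h := by
    intro g h hh
    rcases hh with hh | hh
    · refine Or.inl ?_
      have h1 := mul_inv_eq_iff_eq_mul.1 hh
      rw [← h1, mul_inv_cancel_right]
    · refine Or.inr ?_
      have h1 : g * h = h * c * g := mul_inv_eq_iff_eq_mul.1 hh
      have h2 : g * h = h * g * c := by rw [h1, mul_assoc, ← hcx g, ← mul_assoc]
      calc h * g * h⁻¹ = h * g * c * c⁻¹ * h⁻¹ := by group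
        _ = g * h * c * h⁻¹ := by rw [← h2, hcinv]
        _ = g * (h * c) * h⁻¹ := by group
        _ = g * (c * h) * h⁻¹ := by rw [hcx h]
        _ = g * c := by group
  have ha : ∀ g : S, g ∈ stab a := hgen _
    (fun z hzm => Or.inl (by rw [hz z hzm a, mul_inv_cancel_right])) (Or.inl (by group)) (Or.inr hceq)
  have hb : ∀ g : S, g ∈ stab b := hgen _
    (fun z hzm => Or.inl (by rw [hz z hzm b, mul_inv_cancel_right])) (Or.inr hbac) (Or.inl (by group))
  refine ⟨c, hcZ, hc1, hc2, fun g h => ?_⟩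
  exact hgen (stab g) (fun z hzm => Or.inl (by rw [hz z hzm g, mul_inv_cancel_right]))
    (hswap a g (ha g)) (hswap b g (hb g)) h

/-- The setup exists. -/
theorem exists_setup [Finite G] (P : Sylow 2 G) (hna : ¬ IsMulCommutative (P : Subgroup G))
    (h4 : (center (P : Subgroup G)).index = 4) :
    ∃ (Z : Subgroup G) (c : G), Setup P Z c := by
  obtain ⟨a, b, hab⟩ : ∃ a b : ↥(P : Subgroup G), a * b ≠ b * a := by
    by_contra h
    exact hna ⟨⟨fun a b => by_contra fun hne => h ⟨a, b, hne⟩⟩⟩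
  obtain ⟨c, hc, hc1, hc2, hcc⟩ := exists_comm_involution h4 hab
  refine ⟨(center ↥(P : Subgroup G)).map (P : Subgroup G).subtype, (c : G),
    map_subtype_le _, ?_, ?_, ?_, ⟨a, a.2, b, b.2, fun h => hab (Subtype.ext h)⟩, ⟨c, hc, rfl⟩,
    fun h => hc1 (Subtype.ext h), congrArg Subtype.val hc2, ?_⟩
  · rintro _ ⟨z, hz, rfl⟩ g hg
    exact congrArg Subtype.val (mem_center_iff.1 hz ⟨g, hg⟩)
  · intro g hg h
    exact ⟨⟨g, hg⟩, mem_center_iff.2 fun x => Subtype.ext (h x x.2), rfl⟩
  · intro u hu v hv huv g hg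
    rcases cover_of_index h4 (a := ⟨u, hu⟩) (b := ⟨v, hv⟩) (fun h => huv (congrArg Subtype.val h))
      ⟨g, hg⟩ with h | h | h | h
    · exact Or.inl ⟨_, h, rfl⟩
    · exact Or.inr (Or.inl ⟨_, h, rfl⟩)
    · exact Or.inr (Or.inr (Or.inl ⟨_, h, rfl⟩))
    · exact Or.inr (Or.inr (Or.inr ⟨_, h, rfl⟩))
  · intro g hg h hh
    rcases hcc ⟨g, hg⟩ ⟨h, hh⟩ with e | e
    · exact Or.inl (congrArg Subtype.val e)
    · exact Or.inr (congrArg Subtype.val e)

section Facts

variable {P : Sylow 2 G} {Z : Subgroup G} {c : G}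

theorem Setup.c_mem_P (S : Setup P Z c) : c ∈ (P : Subgroup G) := S.le S.c_mem

theorem Setup.c_inv (S : Setup P Z c) : c⁻¹ = c := inv_eq_of_mul_eq_one_right S.c_sq

theorem Setup.orderOf_c (S : Setup P Z c) : orderOf c = 2 :=
  orderOf_eq_prime (by rw [pow_two]; exact S.c_sq) S.c_ne

theorem Setup.mem_one_c (S : Setup P Z c) {z : G} (h : z ∈ zpowers c) : z = 1 ∨ z = c := by
  obtain ⟨k, rfl⟩ := h
  rcases Int.even_or_odd k with ⟨j, rfl⟩ | ⟨j, rfl⟩
  · left
    show c ^ (j + j) = 1
    rw [← two_mul, zpow_mul, zpow_two, S.c_sq, one_zpow]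
  · right
    show c ^ (2 * j + 1) = c
    rw [zpow_add, zpow_mul, zpow_two, S.c_sq, one_zpow, one_mul, zpow_one]

/-- A non-central element has a non-commuting partner. -/
theorem Setup.exists_partner (S : Setup P Z c) {a : G} (ha : a ∈ (P : Subgroup G)) (haZ : a ∉ Z) :
    ∃ b ∈ (P : Subgroup G), a * b ≠ b * a := by
  by_contra h
  exact haZ (S.mem_of_comm a ha fun b hb => by_contra fun hne => h ⟨b, hb, fun e => hne e.symm⟩)

theorem Setup.conj_of_ne (S : Setup P Z c) {g h : G} (hg : g ∈ (P : Subgroup G))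
    (hh : h ∈ (P : Subgroup G)) (hne : g * h ≠ h * g) : g * h * g⁻¹ = h * c :=
  (S.conj_cases g hg h hh).resolve_left fun e => hne (mul_inv_eq_iff_eq_mul.1 e)

/-- The centralizer in `P` of a non-central element `a` is `Z ∪ Za`. -/
theorem Setup.comm_cases (S : Setup P Z c) {a g : G} (ha : a ∈ (P : Subgroup G)) (haZ : a ∉ Z)
    (hg : g ∈ (P : Subgroup G)) (hga : g * a = a * g) : g ∈ Z ∨ g * a⁻¹ ∈ Z := by
  obtain ⟨b, hb, hab⟩ := S.exists_partner ha haZ
  have hcomm : ∀ z ∈ Z, z * a = a * z := fun z hz => (S.central z hz a ha).symm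
  rcases S.cover a ha b hb hab g hg with h | h | h | h
  · exact Or.inl h
  · exact Or.inr h
  · refine absurd ?_ hab
    have e : b = (g * b⁻¹)⁻¹ * g := by group
    have h1 := hcomm _ (inv_mem h)
    rw [e]
    calc a * ((g * b⁻¹)⁻¹ * g) = a * (g * b⁻¹)⁻¹ * g := by group
      _ = (g * b⁻¹)⁻¹ * (a * g) := by rw [← h1]; group
      _ = (g * b⁻¹)⁻¹ * g * a := by rw [← hga]; group
  · refine absurd ?_ hab
    have e : a * b = (g * (a * b)⁻¹)⁻¹ * g := by group
    have h1 := hcomm _ (inv_mem h)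
    have h2 : a * (a * b) = (a * b) * a := by
      rw [e]
      calc a * ((g * (a * b)⁻¹)⁻¹ * g) = a * (g * (a * b)⁻¹)⁻¹ * g := by group
        _ = (g * (a * b)⁻¹)⁻¹ * (a * g) := by rw [← h1]; group
        _ = (g * (a * b)⁻¹)⁻¹ * g * a := by rw [← hga]; group
    rw [mul_assoc] at h2
    exact mul_left_cancel h2

theorem Setup.sq_mem (S : Setup P Z c) {g : G} (hg : g ∈ (P : Subgroup G)) : g * g ∈ Z := by
  refine S.mem_of_comm _ (mul_mem hg hg) fun h hh => ?_
  have hcg : g * c * g⁻¹ = c := by rw [S.central c S.c_mem g hg, mul_inv_cancel_right]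
  refine (mul_inv_eq_iff_eq_mul.1 (?_ : g * g * h * (g * g)⁻¹ = h)).symm
  have e : g * g * h * (g * g)⁻¹ = g * (g * h * g⁻¹) * g⁻¹ := by group
  rcases S.conj_cases g hg h hh with e1 | e1
  · rw [e, e1, e1]
  · have e2 : g * (h * c) * g⁻¹ = g * h * g⁻¹ * (g * c * g⁻¹) := by group
    rw [e, e1, e2, e1, hcg, mul_assoc, S.c_sq, mul_one]

/-- A product of two elements outside a centralizer lies in it. -/
theorem Setup.comm_mul (S : Setup P Z c) {a g h : G} (ha : a ∈ (P : Subgroup G))
    (hg : g ∈ (P : Subgroup G)) (hh : h ∈ (P : Subgroup G)) (hga : g * a ≠ a * g) (hha : h * a ≠ a * h) :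
    g * h * a = a * (g * h) := by
  have e1 := S.conj_of_ne hg ha hga
  have e2 := S.conj_of_ne hh ha hha
  have hcg : g * c * g⁻¹ = c := by rw [S.central c S.c_mem g hg, mul_inv_cancel_right]
  refine mul_inv_eq_iff_eq_mul.1 ?_
  calc g * h * a * (g * h)⁻¹ = g * (h * a * h⁻¹) * g⁻¹ := by group
    _ = g * a * g⁻¹ * (g * c * g⁻¹) := by rw [e2]; group
    _ = a := by rw [e1, hcg, mul_assoc, S.c_sq, mul_one]

/-- The normalizer of `P` normalizes the centre. -/
theorem Setup.conj_mem_Z (S : Setup P Z c) {n z : G}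
    (hn : n ∈ normalizer ((P : Subgroup G) : Set G)) (hz : z ∈ Z) : n * z * n⁻¹ ∈ Z := by
  refine S.mem_of_comm _ ((mem_normalizer_iff.1 hn z).1 (S.le hz)) fun h hh => ?_
  have h1 : n⁻¹ * h * n ∈ (P : Subgroup G) := by
    refine (mem_normalizer_iff.1 hn _).2 ?_
    simpa [mul_assoc] using hh
  have h2 := S.central z hz _ h1
  calc h * (n * z * n⁻¹) = n * ((n⁻¹ * h * n) * z) * n⁻¹ := by group
    _ = n * (z * (n⁻¹ * h * n)) * n⁻¹ := by rw [h2]
    _ = n * z * n⁻¹ * h := by group

/-- The normalizer of `P` fixes the commutator involution. -/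
theorem Setup.normalizer_fix (S : Setup P Z c) {n : G}
    (hn : n ∈ normalizer ((P : Subgroup G) : Set G)) : n * c * n⁻¹ = c := by
  obtain ⟨a, ha, b, hb, hab⟩ := S.exists_noncomm
  have e1 := S.conj_of_ne ha hb hab
  have hne : (n * a * n⁻¹) * (n * b * n⁻¹) ≠ (n * b * n⁻¹) * (n * a * n⁻¹) := fun h => hab (by
    have h' : n * (a * b) * n⁻¹ = n * (b * a) * n⁻¹ := by
      calc n * (a * b) * n⁻¹ = (n * a * n⁻¹) * (n * b * n⁻¹) := by group
        _ = (n * b * n⁻¹) * (n * a * n⁻¹) := h
        _ = n * (b * a) * n⁻¹ := by group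
    exact mul_left_cancel (mul_right_cancel h'))
  have e2 := S.conj_of_ne ((mem_normalizer_iff.1 hn a).1 ha) ((mem_normalizer_iff.1 hn b).1 hb) hne
  refine mul_left_cancel (a := n * b * n⁻¹) ?_
  calc n * b * n⁻¹ * (n * c * n⁻¹) = n * (b * c) * n⁻¹ := by group
    _ = n * (a * b * a⁻¹) * n⁻¹ := by rw [e1]
    _ = (n * a * n⁻¹) * (n * b * n⁻¹) * (n * a * n⁻¹)⁻¹ := by group
    _ = n * b * n⁻¹ * c := e2

/-- Burnside: central elements conjugate in `G` are conjugate in `N_G(P)`. -/
theorem Setup.burnside [Finite G] (S : Setup P Z c) {x y g : G} (hx : x ∈ Z) (hy : y ∈ Z)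
    (h : g * x * g⁻¹ = y) :
    ∃ m ∈ normalizer ((P : Subgroup G) : Set G), m * x * m⁻¹ = y := by
  have fixed : ∀ z ∈ Z, ∀ p ∈ P, (fun u => p * u * p⁻¹) '' ({z} : Set G) = {z} := fun z hz p hp => by
    rw [Set.image_singleton, S.central z hz p hp, mul_inv_cancel_right]
  obtain ⟨k, hk, hn⟩ := CfsgLib.Transfer.exists_normalizer_of_image_eq P {x} {y} (fixed x hx)
    (fixed y hy) g (by rw [Set.image_singleton, h])
  rw [Set.image_singleton, Set.singleton_eq_singleton_iff] at hk
  refine ⟨g * k, hn, ?_⟩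
  calc g * k * x * (g * k)⁻¹ = g * (k * x * k⁻¹) * g⁻¹ := by group
    _ = y := by rw [hk, h]

end Facts

section Quasisimple

variable [Finite G]

theorem commutator_eq_top (hq : Cfsg.IsQuasisimple G) : commutator G = ⊤ :=
  Group.isPerfect_def.1 hq.1

/-- A normal subgroup of a quasisimple group is central or everything. -/
theorem eq_top_of_not_le_center (hq : Cfsg.IsQuasisimple G) (N : Subgroup G) [hN : N.Normal]
    (h : ¬ N ≤ center G) : N = ⊤ := by
  haveI := hq.2
  let π := QuotientGroup.mk' (center G)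
  rcases (hN.map π (QuotientGroup.mk'_surjective _)).eq_bot_or_eq_top with e | e
  · refine absurd (fun x hx => ?_) h
    exact (QuotientGroup.eq_one_iff x).1 ((mem_bot).1 (e ▸ mem_map_of_mem π hx))
  · rw [eq_top_iff, ← commutator_eq_top hq, commutator_def, commutator_le]
    intro x _ y _
    obtain ⟨x', hx', ex⟩ : π x ∈ N.map π := e ▸ mem_top _
    obtain ⟨y', hy', ey⟩ : π y ∈ N.map π := e ▸ mem_top _
    rw [CfsgLib.Schur.commutator_congr (σ := π) (QuotientGroup.ker_mk' _).le ex.symm ey.symm]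
    exact commutator_le_self N (commutator_mem_commutator hx' hy')

theorem not_comm (hq : Cfsg.IsQuasisimple G) : center G ≠ ⊤ := by
  intro h
  haveI := hq.2
  haveI : Subsingleton (G ⧸ center G) := by
    rw [h]; exact QuotientGroup.subsingleton_quotient_top
  exact false_of_nontrivial_of_subsingleton (G ⧸ center G)

/-- The core of a quasisimple group of even order is central. -/
theorem core_le_center (hq : Cfsg.IsQuasisimple G) {t : G} (ht : orderOf t = 2) :
    Cfsg.pPrimeCore 2 G ≤ center G := by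
  by_contra h
  have h1 := eq_top_of_not_le_center hq _ h
  have h2 := CfsgLib.PCore.not_dvd_card_pPrimeCore (p := 2) (G := G)
  rw [h1, card_top] at h2
  exact h2 (ht ▸ orderOf_dvd_natCard t)

/-- No two commuting non-central strongly closed subgroups meeting trivially. -/
theorem pair_false (hq : Cfsg.IsQuasisimple G) {t : G} (ht : orderOf t = 2)
    (D : CfsgLib.ProductFusion.Pair G) (h₁ : ¬ D.S₁ ≤ center G) (h₂ : ¬ D.S₂ ≤ center G) : False := by
  have hN : ∀ S : Subgroup G, ¬ S ≤ center G → normalClosure (S : Set G) = ⊤ := fun S hS =>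
    eq_top_of_not_le_center hq _ fun h => hS (le_normalClosure.trans h)
  have h := (CfsgLib.ProductFusion.commutator_le_pPrimeCore D).trans (core_le_center hq ht)
  rw [hN _ h₁, hN _ h₂, ← commutator_def, commutator_eq_top hq] at h
  exact not_comm hq (top_le_iff.1 h)

/-- An isolated involution of a quasisimple group is central. -/
theorem center_of_isolated (hq : Cfsg.IsQuasisimple G) {z : G} (hz : Cfsg.IsIsolatedInvolution z) :
    z ∈ center G := by
  refine mem_center_iff.2 fun g => ?_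
  have h1 := core_le_center hq hz.1 (CfsgLib.Involutions.zstar G z hz g)
  have h2 : z * z = 1 := CfsgLib.Involutions.mul_self_eq_one hz.1
  set o := g * z * g⁻¹ * z⁻¹ with ho
  have hoz : o * z = z * o := (mem_center_iff.1 h1 z).symm
  have h3 : o * o = 1 := by
    have e1 : o * z * (o * z) = 1 := by
      rw [ho]
      calc g * z * g⁻¹ * z⁻¹ * z * (g * z * g⁻¹ * z⁻¹ * z) = g * (z * z) * g⁻¹ := by group
        _ = 1 := by rw [h2]; group
    calc o * o = o * o * (z * z) := by rw [h2, mul_one]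
      _ = o * z * (o * z) := by
        rw [mul_assoc o z, ← mul_assoc z o z, ← hoz]; group
      _ = 1 := e1
  have h4 : o = 1 := by
    have hd : orderOf o ∣ 2 := orderOf_dvd_of_pow_eq_one (by rw [pow_two, h3])
    have hodd : orderOf o ∣ Nat.card (Cfsg.pPrimeCore 2 G) :=
      Subgroup.orderOf_dvd_natCard _ (CfsgLib.Involutions.zstar G z hz g)
    have hn2 := CfsgLib.PCore.not_dvd_card_pPrimeCore (p := 2) (G := G)
    rcases (Nat.dvd_prime Nat.prime_two).1 hd with e | e
    · exact orderOf_eq_one_iff.1 e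
    · exact absurd (e ▸ hodd) hn2
  rw [ho, mul_inv_eq_one] at h4
  exact mul_inv_eq_iff_eq_mul.1 h4

theorem sylow_absorbs {P : Sylow 2 G} {z : G} (hz : IsPGroup 2 (zpowers z))
    (hn : z ∈ normalizer ((P : Subgroup G) : Set G)) : z ∈ (P : Subgroup G) := by
  have h : IsPGroup 2 ↥((P : Subgroup G) ⊔ zpowers z) :=
    P.isPGroup'.to_sup_of_normal_left' hz (zpowers_le.2 hn)
  rw [← P.is_maximal' h le_sup_left]
  exact mem_sup_right (mem_zpowers z)

/-- The central 2-elements of a perfect group lie in the derived group of a Sylow 2-subgroup. -/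
theorem Setup.center_cases {P : Sylow 2 G} {Z : Subgroup G} {c : G} (S : Setup P Z c)
    (hq : Cfsg.IsQuasisimple G) {z : G} (hz : z ∈ center G) (hzP : z ∈ (P : Subgroup G)) :
    z = 1 ∨ z = c := by
  let φ : ↥(P : Subgroup G) →* Abelianization ↥(P : Subgroup G) := Abelianization.of
  have h1 := CfsgLib.Transfer.apply_pow_index_eq_one φ hz hzP (commutator_eq_top hq ▸ mem_top z)
  have h2 : φ ⟨z, hzP⟩ = 1 := by
    obtain ⟨k, hk⟩ := P.isPGroup' ⟨z, hzP⟩
    have hcop : Nat.Coprime (P : Subgroup G).index (2 ^ k) := by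
      refine Nat.Coprime.pow_right k ?_
      exact (Nat.Prime.coprime_iff_not_dvd Nat.prime_two).2 P.not_dvd_index |>.symm
    have h3 : φ ⟨z, hzP⟩ ^ 2 ^ k = 1 := by rw [← map_pow, hk, map_one]
    exact orderOf_eq_one_iff.1 (Nat.eq_one_of_dvd_coprimes hcop (orderOf_dvd_of_pow_eq_one h1)
      (orderOf_dvd_of_pow_eq_one h3))
  have h3 : (⟨z, hzP⟩ : ↥(P : Subgroup G)) ∈ commutator ↥(P : Subgroup G) := by
    rw [← Abelianization.ker_of]; exact h2
  have h4 : commutator ↥(P : Subgroup G) ≤ (zpowers c).subgroupOf (P : Subgroup G) := by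
    rw [commutator_def, commutator_le]
    intro x _ y _
    rw [mem_subgroupOf, commutatorElement_def]
    simp only [Subgroup.coe_mul, InvMemClass.coe_inv]
    rcases S.conj_cases x x.2 y y.2 with e | e
    · rw [e, mul_inv_cancel]; exact one_mem _
    · rw [e, S.central c S.c_mem y y.2, mul_inv_cancel_right]; exact mem_zpowers c
  exact S.mem_one_c (h4 h3)

end Quasisimple

end CfsgLib.GWCons.IndexFour
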