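/-
Fusion through the Alperin–Goldschmidt family: invariant subgroups are strongly closed and bound the
focal subgroup; members of the family below a Sylow 2-subgroup with centre of index four.
-/
import Cfsg.Agent.Lib.GWCons.IndexFour.Base
import Cfsg.Agent.Lib.DihProduct.Setting

set_option autoImplicit false
set_option linter.style.haveILetI false
set_option linter.unusedSectionVars false

open Subgroup Cfsg.Tech46.AlpGold
open scoped commutatorElement

namespace CfsgLib.GWCons.IndexFour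

local instance : Fact (Nat.Prime 2) := ⟨Nat.prime_two⟩

universe u

variable {G : Type u} [Group G] [Finite G] {P : Sylow 2 G}

theorem moves_subset {T : Set G}
    (hT : ∀ E, Family P E → ∀ n ∈ normalizer (E : Set G), ∀ x ∈ T, x ∈ E → n * x * n⁻¹ ∈ T) :
    ∀ (L : List (Subgroup G × G)) (A : Set G), Moves P A L → A ⊆ T → cj (val L) A ⊆ T
  | [], A, _, hA => by simpa [val, cj_one] using hA
  | s :: L, A, ⟨h1, h2, h3⟩, hA => by
    rw [val_cons, cj_mul]
    refine moves_subset hT L _ h3 ?_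
    rintro _ ⟨a, ha, rfl⟩
    simpa using hT s.1 h1.1 s.2⁻¹ (inv_mem h1.2) a (hA ha) (h2 ha)

/-- A subgroup invariant under the normalizers of the members is strongly closed. -/
theorem closed_of_family {S : Subgroup G} (hS : S ≤ (P : Subgroup G))
    (hT : ∀ E, Family P E → ∀ n ∈ normalizer (E : Set G), ∀ x ∈ S, x ∈ E → n * x * n⁻¹ ∈ S) :
    Cfsg.IsStronglyClosed S (P : Subgroup G) := by
  refine ⟨hS, fun x hx g hg => ?_⟩
  obtain ⟨L, k, hk, hgL, hL, -⟩ := conjugation_family P {x} (Set.singleton_subset_iff.2 (hS hx))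
    g⁻¹ (by
      rintro _ ⟨a, rfl, rfl⟩
      simp only [inv_inv, SetLike.mem_coe]
      exact hg)
  have h1 := moves_subset (T := (S : Set G)) hT L {x} hL (Set.singleton_subset_iff.2 hx)
    ⟨x, rfl, rfl⟩
  have hkx : k⁻¹ * x * k = x := by
    rw [mul_assoc, mem_centralizer_iff.1 hk x rfl, inv_mul_cancel_left]
  have e : g * x * g⁻¹ = (val L)⁻¹ * x * val L := by
    rw [show g = (k * val L)⁻¹ by rw [← hgL, inv_inv]]
    calc (k * val L)⁻¹ * x * (k * val L)⁻¹⁻¹ = (val L)⁻¹ * (k⁻¹ * x * k) * val L := by group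
      _ = _ := by rw [hkx]
  rw [e]
  exact h1

theorem moves_diff {F : Subgroup G}
    (hF : ∀ E, Family P E → ∀ n ∈ normalizer (E : Set G), ∀ x ∈ E, x⁻¹ * (n * x * n⁻¹) ∈ F) :
    ∀ (L : List (Subgroup G × G)) (A : Set G), Moves P A L → ∀ a ∈ A,
      a⁻¹ * ((val L)⁻¹ * a * val L) ∈ F
  | [], A, _, a, _ => by simp [val]
  | s :: L, A, ⟨h1, h2, h3⟩, a, ha => by
    have h4 : a⁻¹ * (s.2⁻¹ * a * s.2) ∈ F := by
      simpa using hF s.1 h1.1 s.2⁻¹ (inv_mem h1.2) a (h2 ha)
    have h5 := moves_diff hF L _ h3 (s.2⁻¹ * a * s.2) ⟨a, ha, rfl⟩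
    have e : a⁻¹ * ((val (s :: L))⁻¹ * a * val (s :: L)) =
        a⁻¹ * (s.2⁻¹ * a * s.2) *
          ((s.2⁻¹ * a * s.2)⁻¹ * ((val L)⁻¹ * (s.2⁻¹ * a * s.2) * val L)) := by
      rw [val_cons]; group
    rw [e]
    exact mul_mem h4 h5

/-- The focal subgroup is bounded by the differences inside the members. -/
theorem focal_le {F : Subgroup G}
    (hF : ∀ E, Family P E → ∀ n ∈ normalizer (E : Set G), ∀ x ∈ E, x⁻¹ * (n * x * n⁻¹) ∈ F) :
    commutator G ⊓ (P : Subgroup G) ≤ F := by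
  rw [commutator_inf_eq_focalSubgroup P, focalSubgroup_def, closure_le]
  rintro z ⟨hz, x, hx, u, rfl⟩
  have h1 : u * x⁻¹ * u⁻¹ ∈ (P : Subgroup G) := by
    have := mul_mem (inv_mem hx) hz
    simpa [commutatorElement_def, mul_assoc] using this
  obtain ⟨L, k, hk, hgL, hL, -⟩ := conjugation_family P {x⁻¹}
    (Set.singleton_subset_iff.2 (inv_mem hx)) u⁻¹ (by
      rintro _ ⟨a, rfl, rfl⟩
      simp only [inv_inv, SetLike.mem_coe]
      exact h1)
  have h2 := moves_diff hF L {x⁻¹} hL x⁻¹ rfl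
  have hkx : k⁻¹ * x⁻¹ * k = x⁻¹ := by
    rw [mul_assoc, mem_centralizer_iff.1 hk x⁻¹ rfl, inv_mul_cancel_left]
  have e : ⁅x, u⁆ = x⁻¹⁻¹ * ((val L)⁻¹ * x⁻¹ * val L) := by
    rw [commutatorElement_def, show u = (k * val L)⁻¹ by rw [← hgL, inv_inv]]
    calc x * (k * val L)⁻¹ * x⁻¹ * (k * val L)⁻¹⁻¹ = x * ((val L)⁻¹ * (k⁻¹ * x⁻¹ * k) * val L) := by
          group
      _ = _ := by rw [hkx, inv_inv]
  rw [SetLike.mem_coe, e]
  exact h2

/-- The centralizer in `P` of a single element. -/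
def maxAb (P : Sylow 2 G) (a : G) : Subgroup G := (P : Subgroup G) ⊓ centralizer ({a} : Set G)

theorem mem_maxAb {a g : G} : g ∈ maxAb P a ↔ g ∈ (P : Subgroup G) ∧ g * a = a * g := by
  rw [maxAb, mem_inf, mem_centralizer_singleton_iff]

theorem self_mem_maxAb {a : G} (ha : a ∈ (P : Subgroup G)) : a ∈ maxAb P a := mem_maxAb.2 ⟨ha, rfl⟩

variable {Z : Subgroup G} {c : G}

theorem Setup.le_maxAb (S : Setup P Z c) {a : G} (ha : a ∈ (P : Subgroup G)) : Z ≤ maxAb P a :=
  fun z hz => mem_maxAb.2 ⟨S.le hz, (S.central z hz a ha).symm⟩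

theorem Setup.maxAb_comm (S : Setup P Z c) {a : G} (ha : a ∈ (P : Subgroup G)) (haZ : a ∉ Z)
    {g h : G} (hg : g ∈ maxAb P a) (hh : h ∈ maxAb P a) : g * h = h * g := by
  obtain ⟨hgP, hga⟩ := mem_maxAb.1 hg
  obtain ⟨hhP, hha⟩ := mem_maxAb.1 hh
  rcases S.comm_cases ha haZ hgP hga with h1 | h1
  · exact (S.central g h1 h hhP).symm
  · have e := S.central _ h1 h hhP
    calc g * h = g * a⁻¹ * (a * h) := by group
      _ = g * a⁻¹ * h * a := by rw [← hha]; group
      _ = h * g := by rw [← e]; group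

/-- A member of the family is `P` or a maximal abelian subgroup. -/
theorem Setup.family_cases (S : Setup P Z c) {E : Subgroup G} (hE : Family P E) :
    E = (P : Subgroup G) ∨ ∃ a ∈ (P : Subgroup G), a ∉ Z ∧ E = maxAb P a := by
  have hEP := hE.1
  have hcen := CfsgLib.DihProduct.family_centric hE
  have hZE : Z ≤ E := fun z hz => hcen ⟨S.le hz, mem_centralizer_iff.2 fun e he => S.central z hz e (hEP he)⟩
  obtain ⟨a, haE, haZ⟩ : ∃ a ∈ E, a ∉ Z := by
    by_contra h
    obtain ⟨x, hx, y, hy, hxy⟩ := S.exists_noncomm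
    have hall : ∀ g ∈ (P : Subgroup G), g ∈ Z := fun g hg => by
      by_contra hgZ
      exact h ⟨g, hcen ⟨hg, mem_centralizer_iff.2 fun e he =>
        (S.central e (by_contra fun he' => h ⟨e, he, he'⟩) g hg).symm⟩, hgZ⟩
    exact hxy (S.central y (hall y hy) x hx)
  have haP := hEP haE
  by_cases hb : ∃ b ∈ E, b * a ≠ a * b
  · obtain ⟨b, hbE, hba⟩ := hb
    refine Or.inl (le_antisymm hEP fun g hg => ?_)
    rcases S.cover a haP b (hEP hbE) (fun e => hba e.symm) g hg with h | h | h | h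
    · exact hZE h
    · simpa using mul_mem (hZE h) haE
    · simpa using mul_mem (hZE h) hbE
    · simpa [mul_assoc] using mul_mem (hZE h) (mul_mem haE hbE)
  · refine Or.inr ⟨a, haP, haZ, le_antisymm (fun g hg => mem_maxAb.2
      ⟨hEP hg, by_contra fun hne => hb ⟨g, hg, hne⟩⟩) fun g hg => ?_⟩
    obtain ⟨hgP, hga⟩ := mem_maxAb.1 hg
    rcases S.comm_cases haP haZ hgP hga with h | h
    · exact hZE h
    · simpa using mul_mem (hZE h) haE

end CfsgLib.GWCons.IndexFour
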