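/-
A maximal abelian subgroup `A` whose normalizer moves the commutator involution: the transvections
induced on `A` have exactly three centres, giving `A = V × R` with `V` a four-group, both factors
invariant under the normalizer of `A`.
-/
import Cfsg.Agent.Lib.GWCons.IndexFour.Family

set_option autoImplicit false
set_option linter.style.haveILetI false
set_option linter.unusedSectionVars false

open Subgroup Cfsg.Tech46.AlpGold

namespace CfsgLib.GWCons.IndexFour

local instance : Fact (Nat.Prime 2) := ⟨Nat.prime_two⟩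

universe u

variable {G : Type u} [Group G] [Finite G]

/-- In a group of order not divisible by four, commuting involutions are equal. -/
theorem eq_of_commute_involutions {K : Type*} [Group K] [Finite K] (h4 : ¬ 4 ∣ Nat.card K) {x y : K}
    (hx : x * x = 1) (hx1 : x ≠ 1) (hy : y * y = 1) (hy1 : y ≠ 1) (hxy : x * y = y * x) : x = y := by
  by_contra hne
  have ox : orderOf x = 2 := orderOf_eq_prime (by rw [pow_two]; exact hx) hx1
  have oy : orderOf y = 2 := orderOf_eq_prime (by rw [pow_two]; exact hy) hy1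
  have oxy : orderOf (x * y) = 2 := by
    refine orderOf_eq_prime (by
      rw [pow_two]
      calc x * y * (x * y) = x * (y * x) * y := by group
        _ = x * (x * y) * y := by rw [hxy]
        _ = x * x * (y * y) := by group
        _ = 1 := by rw [hx, hy, one_mul]) fun h => hne ?_
    calc x = x * y * y := by rw [mul_assoc, hy, mul_one]
      _ = y := by rw [h, one_mul]
  have h := CfsgLib.Involutions.card_closure_pair ox oy
  rw [oxy] at h
  exact h4 (by
    have h' := card_subgroup_dvd_card (closure ({x, y} : Set K))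
    rwa [h] at h')

/-- `A = V × R` with `V` a four-group through `c`, both invariant under the normalizer of `A`, whose
action on `R` is induced from the normalizer of `P`. -/
structure Four (P : Sylow 2 G) (Z : Subgroup G) (c : G) (A V R : Subgroup G) : Prop where
  V_le : V ≤ A
  R_le : R ≤ Z
  R_le' : R ≤ A
  c_mem : c ∈ V
  elems : ∃ v ∈ V, v ∉ Z ∧ v * v = 1 ∧ ∀ w ∈ V, w = 1 ∨ w = c ∨ w = v ∨ w = v * c
  V_Z : ∀ w ∈ V, w ∈ Z → w = 1 ∨ w = c
  disj : ∀ w ∈ V, w ∈ R → w = 1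
  decomp : ∀ x ∈ A, ∃ v ∈ V, ∃ r ∈ R, x = v * r
  norm_V : ∀ n ∈ normalizer (A : Set G), ∀ v ∈ V, n * v * n⁻¹ ∈ V
  norm_R : ∀ n ∈ normalizer (A : Set G), ∀ r ∈ R, n * r * n⁻¹ ∈ R
  norm_P : ∀ n ∈ normalizer (A : Set G), ∃ m ∈ normalizer ((P : Subgroup G) : Set G),
    m ∈ normalizer (A : Set G) ∧ ∀ r ∈ R, n * r * n⁻¹ = m * r * m⁻¹

/-- The normalizer of the maximal abelian subgroup at `a` moves `c`. -/
def Ess (P : Sylow 2 G) (Z : Subgroup G) (c a : G) : Prop :=
  a ∈ (P : Subgroup G) ∧ a ∉ Z ∧ ∃ g ∈ normalizer (maxAb P a : Set G), g * c * g⁻¹ ≠ c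

variable {P : Sylow 2 G} {Z : Subgroup G} {c : G}

theorem Setup.le_normalizer_maxAb (S : Setup P Z c) {a : G} (ha : a ∈ (P : Subgroup G)) :
    (P : Subgroup G) ≤ normalizer (maxAb P a : Set G) := by
  intro p hp
  refine CfsgLib.DihProduct.mem_normalizer_of_conj_mem fun x hx => ?_
  rcases S.conj_cases p hp x (mem_maxAb.1 hx).1 with e | e <;> rw [e]
  · exact hx
  · exact mul_mem hx (S.le_maxAb ha S.c_mem)

/-- Fixed elements of `A` under an element outside `A` are central. -/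
theorem Setup.fix_mem_Z (S : Setup P Z c) {a t x : G} (ha : a ∈ (P : Subgroup G)) (haZ : a ∉ Z)
    (ht : t ∈ (P : Subgroup G)) (hta : t * a ≠ a * t) (hx : x ∈ maxAb P a) (h : t * x = x * t) :
    x ∈ Z := by
  by_contra hxZ
  exact hta (S.maxAb_comm (mem_maxAb.1 hx).1 hxZ (mem_maxAb.2 ⟨ht, h⟩)
    (mem_maxAb.2 ⟨ha, (mem_maxAb.1 hx).2.symm⟩))

/-- The index of a maximal abelian subgroup in `P` is two. -/
theorem Setup.card_maxAb (S : Setup P Z c) {a : G} (ha : a ∈ (P : Subgroup G)) (haZ : a ∉ Z) :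
    Nat.card (P : Subgroup G) = 2 * Nat.card (maxAb P a) := by
  obtain ⟨t, ht, hat⟩ := S.exists_partner ha haZ
  have hle : maxAb P a ≤ (P : Subgroup G) := inf_le_left
  have hidx : ((maxAb P a).subgroupOf (P : Subgroup G)).index = 2 := by
    refine index_eq_two_iff.2 ⟨⟨t, ht⟩, fun b => ?_⟩
    rw [mem_subgroupOf, mem_subgroupOf, Subgroup.coe_mul, mem_maxAb, mem_maxAb]
    by_cases hb : (b : G) * a = a * (b : G)
    · refine Or.inr ⟨⟨b.2, hb⟩, fun h => hat ?_⟩
      have h1 := h.2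
      have e : (b : G) * (t * a) = (b : G) * (a * t) := by
        rw [← mul_assoc, h1, ← mul_assoc, ← hb, mul_assoc]
      exact (mul_left_cancel e).symm
    · exact Or.inl ⟨⟨mul_mem b.2 ht, S.comm_mul ha b.2 ht hb (fun h => hat h.symm)⟩,
        fun h => hb h.2⟩
  have := card_mul_index ((maxAb P a).subgroupOf (P : Subgroup G))
  rw [hidx, Nat.card_congr (subgroupOfEquivOfLe hle).toEquiv, mul_comm] at this
  exact this.symm

theorem Setup.four (S : Setup P Z c) {a : G} (hE : Ess P Z c a) :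
    ∃ V R : Subgroup G, Four P Z c (maxAb P a) V R := by
  obtain ⟨ha, haZ, g₀, hg₀, hg₀c⟩ := hE
  obtain ⟨t, ht, hat⟩ := S.exists_partner ha haZ
  have hta : t * a ≠ a * t := fun h => hat h.symm
  set A := maxAb P a with hA
  set N := normalizer (A : Set G) with hN
  set C := centralizer (A : Set G) with hC
  have hPN : (P : Subgroup G) ≤ N := S.le_normalizer_maxAb ha
  have hcA : c ∈ A := S.le_maxAb ha S.c_mem
  have haA : a ∈ A := self_mem_maxAb ha
  have hAC : A ≤ C := fun x hx => mem_centralizer_iff.2 fun y hy => S.maxAb_comm ha haZ hy hx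
  have hAP : A ≤ (P : Subgroup G) := inf_le_left
  haveI : (C.subgroupOf N).Normal := (normal_subgroupOf_iff_le_normalizer
    (centralizer_le_normalizer _)).2 (CfsgLib.Techniques.normalizer_le_normalizer_centralizer A)
  let ρ := QuotientGroup.mk' (C.subgroupOf N)
  have hK : ¬ 4 ∣ Nat.card (↥N ⧸ C.subgroupOf N) := by
    intro h4
    have h1 : Nat.card A ∣ Nat.card (C.subgroupOf N) := by
      rw [Nat.card_congr (subgroupOfEquivOfLe (centralizer_le_normalizer (A : Set G))).toEquiv]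
      exact card_dvd_of_le hAC
    have h2 : 4 * Nat.card A ∣ Nat.card G := by
      refine (Nat.mul_dvd_mul h4 h1).trans ?_
      rw [← card_eq_card_quotient_mul_card_subgroup]
      exact card_subgroup_dvd_card N
    rw [show 4 * Nat.card A = 2 * (2 * Nat.card A) by ring, ← S.card_maxAb ha haZ,
      ← card_mul_index (P : Subgroup G), mul_comm 2] at h2
    exact P.not_dvd_index (Nat.dvd_of_mul_dvd_mul_left Nat.card_pos h2)
  -- conjugates of `t` and of `c`
  let U : G → G := fun g => g * t * g⁻¹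
  let d : G → G := fun g => g * c * g⁻¹
  have hU : ∀ g, g ∈ N → U g ∈ N := fun g hg => mul_mem (mul_mem hg (hPN ht)) (inv_mem hg)
  have hdA : ∀ g, g ∈ N → d g ∈ A := fun g hg => (mem_normalizer_iff.1 hg c).1 hcA
  have hmem : ∀ g, g ∈ N → ∀ x ∈ A, g * x * g⁻¹ ∈ A := fun g hg x hx =>
    (mem_normalizer_iff.1 hg x).1 hx
  have hmem' : ∀ g, g ∈ N → ∀ x ∈ A, g⁻¹ * x * g ∈ A := fun g hg x hx => by
    simpa using hmem _ (inv_mem hg) x hx
  have act₁ : ∀ x ∈ A, t * x * t⁻¹ = x ∨ t * x * t⁻¹ = x * c := fun x hx =>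
    S.conj_cases t ht x (hAP hx)
  have act : ∀ g, g ∈ N → ∀ x ∈ A, U g * x * (U g)⁻¹ = x ∨ U g * x * (U g)⁻¹ = x * d g := by
    intro g hg x hx
    rcases act₁ _ (hmem' g hg x hx) with e | e
    · left
      calc U g * x * (U g)⁻¹ = g * (t * (g⁻¹ * x * g) * t⁻¹) * g⁻¹ := by simp only [U]; group
        _ = x := by rw [e]; group
    · right
      calc U g * x * (U g)⁻¹ = g * (t * (g⁻¹ * x * g) * t⁻¹) * g⁻¹ := by simp only [U]; group
        _ = x * d g := by rw [e]; simp only [d]; group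
  have fixd : ∀ g, g ∈ N → U g * d g * (U g)⁻¹ = d g := by
    intro g _
    calc U g * d g * (U g)⁻¹ = g * (t * c * t⁻¹) * g⁻¹ := by simp only [U, d]; group
      _ = d g := by rw [S.central c S.c_mem t ht, mul_inv_cancel_right]
  have hdd : ∀ g, d g * d g = 1 := fun g => by
    calc d g * d g = g * (c * c) * g⁻¹ := by simp only [d]; group
      _ = 1 := by rw [S.c_sq]; group
  have moved : ∀ g, g ∈ N → U g * (g * a * g⁻¹) * (U g)⁻¹ = g * a * g⁻¹ * d g := by
    intro g _
    calc U g * (g * a * g⁻¹) * (U g)⁻¹ = g * (t * a * t⁻¹) * g⁻¹ := by simp only [U]; group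
      _ = g * a * g⁻¹ * d g := by rw [S.conj_of_ne ht ha hta]; simp only [d]; group
  have hdne : ∀ g, d g ≠ 1 := fun g h => S.c_ne (by
    have : g * c * g⁻¹ = g * 1 * g⁻¹ := by rw [mul_one, mul_inv_cancel]; exact h
    exact mul_left_cancel (mul_right_cancel this))
  -- the classes modulo `C`
  let r : ∀ g, g ∈ N → ↥N ⧸ C.subgroupOf N := fun g hg => ρ ⟨g, hg⟩
  have r_eq : ∀ g h (hg : g ∈ N) (hh : h ∈ N), r g hg = r h hh → ∀ x ∈ A,
      g * x * g⁻¹ = h * x * h⁻¹ := by
    intro g h hg hh e x hx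
    have h1 : g⁻¹ * h ∈ C := by
      simpa [mem_subgroupOf] using QuotientGroup.eq.1 e
    have h2 := mem_centralizer_iff.1 h1 x hx
    calc g * x * g⁻¹ = g * (x * (g⁻¹ * h)) * h⁻¹ := by group
      _ = g * (g⁻¹ * h * x) * h⁻¹ := by rw [h2]
      _ = h * x * h⁻¹ := by group
  have r_one : ∀ g (hg : g ∈ N), (∀ x ∈ A, g * x * g⁻¹ = x) → r g hg = 1 := by
    intro g hg h
    refine (QuotientGroup.eq_one_iff _).2 (mem_subgroupOf.2 (mem_centralizer_iff.2 fun x hx => ?_))
    exact (mul_inv_eq_iff_eq_mul.1 (h x hx)).symm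
  have rU_ne : ∀ g (hg : g ∈ N), r (U g) (hU g hg) ≠ 1 := by
    intro g hg h
    have h1 : r (U g) (hU g hg) = r 1 (one_mem _) := h.trans (map_one ρ).symm
    have h2 := r_eq _ _ _ _ h1 (g * a * g⁻¹) (hmem g hg a haA)
    rw [moved g hg, one_mul, inv_one, mul_one, mul_eq_left] at h2
    exact hdne g h2
  have rU_sq : ∀ g (hg : g ∈ N), r (U g) (hU g hg) * r (U g) (hU g hg) = 1 := by
    intro g hg
    rw [← map_mul]
    refine r_one _ (mul_mem (hU g hg) (hU g hg)) fun x hx => ?_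
    have e : U g * U g * x * (U g * U g)⁻¹ = U g * (U g * x * (U g)⁻¹) * (U g)⁻¹ := by group
    rcases act g hg x hx with e1 | e1
    · rw [e, e1, e1]
    · have e2 : U g * (x * d g) * (U g)⁻¹ = U g * x * (U g)⁻¹ * (U g * d g * (U g)⁻¹) := by group
      rw [e, e1, e2, e1, fixd g hg, mul_assoc, hdd, mul_one]
  have same : ∀ g h (hg : g ∈ N) (hh : h ∈ N), d g = d h →
      r (U g) (hU g hg) = r (U h) (hU h hh) := by
    intro g h hg hh e
    refine eq_of_commute_involutions hK (rU_sq g hg) (rU_ne g hg) (rU_sq h hh) (rU_ne h hh) ?_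
    have hm : r (U g) (hU g hg) * r (U h) (hU h hh) * (r (U g) (hU g hg) * r (U h) (hU h hh)) = 1 := by
      rw [← map_mul, ← map_mul]
      refine r_one _ (mul_mem (mul_mem (hU g hg) (hU h hh)) (mul_mem (hU g hg) (hU h hh))) fun x hx => ?_
      set m := U g * U h with hmdef
      have hmx : ∀ y ∈ A, m * y * m⁻¹ = y ∨ m * y * m⁻¹ = y * d g := by
        intro y hy
        have em : m * y * m⁻¹ = U g * (U h * y * (U h)⁻¹) * (U g)⁻¹ := by rw [hmdef]; group
        have esplit : U g * (y * d g) * (U g)⁻¹ = U g * y * (U g)⁻¹ * (U g * d g * (U g)⁻¹) := by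
          group
        rcases act h hh y hy with e1 | e1 <;> rcases act g hg y hy with e2 | e2
        · exact Or.inl (by rw [em, e1, e2])
        · exact Or.inr (by rw [em, e1, e2])
        · exact Or.inr (by rw [em, e1, ← e, esplit, e2, fixd g hg])
        · exact Or.inl (by rw [em, e1, ← e, esplit, e2, fixd g hg, mul_assoc, hdd, mul_one])
      have hmd : m * d g * m⁻¹ = d g := by
        have em : m * d g * m⁻¹ = U g * (U h * d g * (U h)⁻¹) * (U g)⁻¹ := by rw [hmdef]; group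
        rw [em, e, fixd h hh, ← e, fixd g hg]
      have em2 : m * m * x * (m * m)⁻¹ = m * (m * x * m⁻¹) * m⁻¹ := by group
      show m * m * x * (m * m)⁻¹ = x
      rcases hmx x hx with e1 | e1
      · rw [em2, e1, e1]
      · have e2 : m * (x * d g) * m⁻¹ = m * x * m⁻¹ * (m * d g * m⁻¹) := by group
        rw [em2, e1, e2, e1, hmd, mul_assoc, hdd, mul_one]
    have i1 := inv_eq_of_mul_eq_one_right (rU_sq g hg)
    have i2 := inv_eq_of_mul_eq_one_right (rU_sq h hh)
    have i3 := inv_eq_of_mul_eq_one_right hm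
    rw [mul_inv_rev, i1, i2] at i3
    exact i3.symm
  have conjU : ∀ g h : G, U g * U h * (U g)⁻¹ = U (U g * h) := fun g h => by simp only [U]; group
  have conjd : ∀ g h : G, U g * d h * (U g)⁻¹ = d (U g * h) := fun g h => by simp only [U, d]; group
  have moves : ∀ g h, g ∈ N → h ∈ N → d g ≠ d h → U h * d g * (U h)⁻¹ = d g * d h := by
    intro g h hg hh hne
    refine (act h hh _ (hdA g hg)).resolve_left fun e => hne ?_
    have e1 := same (U h * g) g (mul_mem (hU h hh) hg) hg ((conjd h g).symm.trans e)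
    have e2 : r (U h) (hU h hh) * r (U g) (hU g hg) = r (U g) (hU g hg) * r (U h) (hU h hh) := by
      have e3 : r (U (U h * g)) (hU _ (mul_mem (hU h hh) hg)) =
          r (U h) (hU h hh) * r (U g) (hU g hg) * (r (U h) (hU h hh))⁻¹ := by
        rw [← map_inv, ← map_mul, ← map_mul]
        exact congrArg ρ (Subtype.ext (conjU h g).symm)
      rw [e3] at e1
      exact mul_inv_eq_iff_eq_mul.1 e1
    have e3 := eq_of_commute_involutions hK (rU_sq h hh) (rU_ne h hh) (rU_sq g hg) (rU_ne g hg) e2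
    have e4 := r_eq _ _ _ _ e3 (g * a * g⁻¹) (hmem g hg a haA)
    rw [moved g hg] at e4
    rcases act h hh (g * a * g⁻¹) (hmem g hg a haA) with e5 | e5
    · rw [e5] at e4
      exact absurd (left_eq_mul.1 e4) (hdne g)
    · exact mul_left_cancel (e4.symm.trans e5)
  -- the three centres
  have d_one : d 1 = c := by simp [d]
  have U_one : U 1 = t := by simp [U]
  set d₀ := d g₀ with hd₀
  have hd₀c : d₀ ≠ c := hg₀c
  have h1N : (1 : G) ∈ N := one_mem _
  have t_moves : ∀ g, g ∈ N → d g ≠ c → t * d g * t⁻¹ = d g * c := fun g hg h => by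
    have := moves g 1 hg h1N (by rw [d_one]; exact h)
    rwa [U_one, d_one] at this
  have u_c : U g₀ * c * (U g₀)⁻¹ = c * d₀ := by
    have := moves 1 g₀ h1N hg₀ (by rw [d_one]; exact fun h => hd₀c h.symm)
    rwa [d_one] at this
  have hcd : c * d₀ = d₀ * c := (S.central c S.c_mem _ (hAP (hdA g₀ hg₀))).symm
  have t_d₀ : t * d₀ * t⁻¹ = c * d₀ := (t_moves g₀ hg₀ hd₀c).trans hcd.symm
  have hd₀Z : d₀ ∉ Z := fun h => by
    have e := S.central d₀ h t ht
    rw [e, mul_inv_cancel_right] at t_d₀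
    exact S.c_ne (left_eq_mul.1 (t_d₀.trans hcd))
  have three : ∀ h, h ∈ N → d h = c ∨ d h = d₀ ∨ d h = c * d₀ := by
    intro h hh
    by_cases h1 : d h = c
    · exact Or.inl h1
    by_cases h2 : d h = d₀
    · exact Or.inr (Or.inl h2)
    refine Or.inr (Or.inr ?_)
    have e := t_moves h hh h1
    have hth : t * h ∈ N := mul_mem (hPN ht) hh
    have ef : d (t * h) = d h * c := by rw [← e]; simp only [d]; group
    have hfix : U g₀ * d (t * h) * (U g₀)⁻¹ = d (t * h) := by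
      have e1 := moves h g₀ hh hg₀ h2
      calc U g₀ * d (t * h) * (U g₀)⁻¹ = U g₀ * d h * (U g₀)⁻¹ * (U g₀ * c * (U g₀)⁻¹) := by
            rw [ef]; group
        _ = d h * (d₀ * c) * d₀ := by rw [e1, u_c, ← hd₀]; group
        _ = d h * (c * d₀) * d₀ := by rw [hcd]
        _ = d h * c * (d₀ * d₀) := by group
        _ = d (t * h) := by rw [hdd, mul_one, ef]
    by_cases h3 : d (t * h) = d₀
    · rw [ef] at h3
      calc d h = d h * c * c := by rw [mul_assoc, S.c_sq, mul_one]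
        _ = c * d₀ := by rw [h3, hcd]
    · have e1 := moves (t * h) g₀ hth hg₀ h3
      rw [hfix] at e1
      exact absurd (left_eq_mul.1 e1) (hdne g₀)
  -- the four-group
  let V : Subgroup G :=
    { carrier := {w | w = 1 ∨ w = c ∨ w = d₀ ∨ w = d₀ * c}
      one_mem' := Or.inl rfl
      mul_mem' := by
        have e1 : c * c = 1 := S.c_sq
        have e2 : d₀ * d₀ = 1 := hdd g₀
        rintro x y (rfl | rfl | rfl | rfl) (rfl | rfl | rfl | rfl)
        · exact Or.inl (one_mul _)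
        · exact Or.inr (Or.inl (one_mul _))
        · exact Or.inr (Or.inr (Or.inl (one_mul _)))
        · exact Or.inr (Or.inr (Or.inr (one_mul _)))
        · exact Or.inr (Or.inl (mul_one _))
        · exact Or.inl e1
        · exact Or.inr (Or.inr (Or.inr hcd))
        · exact Or.inr (Or.inr (Or.inl (by rw [← mul_assoc, hcd, mul_assoc, e1, mul_one])))
        · exact Or.inr (Or.inr (Or.inl (mul_one _)))
        · exact Or.inr (Or.inr (Or.inr rfl))
        · exact Or.inl e2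
        · exact Or.inr (Or.inl (by rw [← mul_assoc, e2, one_mul]))
        · exact Or.inr (Or.inr (Or.inr (mul_one _)))
        · exact Or.inr (Or.inr (Or.inl (by rw [mul_assoc, e1, mul_one])))
        · exact Or.inr (Or.inl (by rw [mul_assoc, hcd, ← mul_assoc, e2, one_mul]))
        · exact Or.inl (by rw [mul_assoc, ← mul_assoc c, hcd, mul_assoc d₀ c c, e1, mul_one, e2])
      inv_mem' := by
        rintro x (rfl | rfl | rfl | rfl)
        · exact Or.inl inv_one
        · exact Or.inr (Or.inl S.c_inv)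
        · exact Or.inr (Or.inr (Or.inl (inv_eq_of_mul_eq_one_right (hdd g₀))))
        · exact Or.inr (Or.inr (Or.inr (by
            rw [mul_inv_rev, S.c_inv, inv_eq_of_mul_eq_one_right (hdd g₀), hcd]))) }
  have hVmem : ∀ w, w ∈ V ↔ w = 1 ∨ w = c ∨ w = d₀ ∨ w = d₀ * c := fun _ => Iff.rfl
  let R : Subgroup G :=
    { carrier := {x | x ∈ A ∧ ∀ h, h ∈ N → U h * x = x * U h}
      one_mem' := ⟨one_mem _, fun h _ => by rw [mul_one, one_mul]⟩
      mul_mem' := fun {x y} hx hy => ⟨mul_mem hx.1 hy.1, fun h hh => by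
        rw [← mul_assoc, hx.2 h hh, mul_assoc, hy.2 h hh, ← mul_assoc]⟩
      inv_mem' := fun {x} hx => ⟨inv_mem hx.1, fun h hh => (Commute.inv_right (hx.2 h hh)).eq⟩ }
  have hRmem : ∀ x, x ∈ R ↔ x ∈ A ∧ ∀ h, h ∈ N → U h * x = x * U h := fun _ => Iff.rfl
  have hRZ : R ≤ Z := fun x hx => S.fix_mem_Z ha haZ ht hta hx.1 (by
    have := ((hRmem x).1 hx).2 1 h1N
    rwa [U_one] at this)
  have hd₀A : d₀ ∈ A := hdA g₀ hg₀
  have hVZ : ∀ w ∈ V, w ∈ Z → w = 1 ∨ w = c := by
    intro w hw hwZ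
    rcases (hVmem w).1 hw with h | h | h | h
    · exact Or.inl h
    · exact Or.inr h
    · exact absurd (h ▸ hwZ) hd₀Z
    · rw [h] at hwZ
      have h' := mul_mem hwZ S.c_mem
      rw [mul_assoc, S.c_sq, mul_one] at h'
      exact absurd h' hd₀Z
  refine ⟨V, R, fun w hw => ?_, hRZ, fun x hx => hx.1, (hVmem c).2 (Or.inr (Or.inl rfl)),
    ⟨d₀, (hVmem _).2 (Or.inr (Or.inr (Or.inl rfl))), hd₀Z, hdd g₀, fun w hw => (hVmem w).1 hw⟩,
    hVZ, fun w hw hwR => ?_, fun x hx => ?_, fun n hn => ?_, fun n hn r hr => ?_, fun n hn => ?_⟩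
  · rcases (hVmem w).1 hw with rfl | rfl | rfl | rfl
    exacts [one_mem _, hcA, hd₀A, mul_mem hd₀A hcA]
  · rcases hVZ w hw (hRZ hwR) with h | h
    · exact h
    · have := ((hRmem w).1 hwR).2 g₀ hg₀
      rw [h] at this
      rw [this, mul_inv_cancel_right] at u_c
      exact absurd (left_eq_mul.1 u_c) (hdne g₀)
  · obtain ⟨v₁, hv₁, hy₁⟩ : ∃ v₁ ∈ V, t * (x * v₁) * t⁻¹ = x * v₁ := by
      rcases act₁ x hx with e | e
      · exact ⟨1, one_mem _, by rw [mul_one]; exact e⟩
      · refine ⟨d₀, (hVmem _).2 (Or.inr (Or.inr (Or.inl rfl))), ?_⟩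
        calc t * (x * d₀) * t⁻¹ = t * x * t⁻¹ * (t * d₀ * t⁻¹) := by group
          _ = x * (c * c) * d₀ := by rw [e, t_d₀]; group
          _ = x * d₀ := by rw [S.c_sq, mul_one]
    have hV_A : V ≤ A := by
      intro w hw
      rcases (hVmem w).1 hw with rfl | rfl | rfl | rfl
      exacts [one_mem _, hcA, hd₀A, mul_mem hd₀A hcA]
    have htc : t * c * t⁻¹ = c := by rw [S.central c S.c_mem t ht, mul_inv_cancel_right]
    obtain ⟨v₂, hv₂, hty, huy⟩ : ∃ v₂ ∈ V, t * (x * v₁ * v₂) * t⁻¹ = x * v₁ * v₂ ∧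
        U g₀ * (x * v₁ * v₂) * (U g₀)⁻¹ = x * v₁ * v₂ := by
      rcases act g₀ hg₀ (x * v₁) (mul_mem hx (hV_A hv₁)) with e | e
      · exact ⟨1, one_mem _, by rw [mul_one]; exact hy₁, by rw [mul_one]; exact e⟩
      · refine ⟨c, (hVmem _).2 (Or.inr (Or.inl rfl)), ?_, ?_⟩
        · calc t * (x * v₁ * c) * t⁻¹ = t * (x * v₁) * t⁻¹ * (t * c * t⁻¹) := by group
            _ = x * v₁ * c := by rw [hy₁, htc]
        · calc U g₀ * (x * v₁ * c) * (U g₀)⁻¹ =
                U g₀ * (x * v₁) * (U g₀)⁻¹ * (U g₀ * c * (U g₀)⁻¹) := by group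
            _ = x * v₁ * (d₀ * c) * d₀ := by rw [e, u_c, ← hd₀]; group
            _ = x * v₁ * (c * d₀) * d₀ := by rw [hcd]
            _ = x * v₁ * c * (d₀ * d₀) := by group
            _ = x * v₁ * c := by rw [hdd, mul_one]
    set y := x * v₁ * v₂ with hy
    have hyA : y ∈ A := mul_mem (mul_mem hx (hV_A hv₁)) (hV_A hv₂)
    have hyR : y ∈ R := by
      refine (hRmem y).2 ⟨hyA, fun h hh => mul_inv_eq_iff_eq_mul.1 ?_⟩
      rcases three h hh with e | e | e
      · have e' := r_eq _ _ _ _ (same h 1 hh h1N (by rw [e, d_one])) y hyA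
        rw [e', U_one]; exact hty
      · rw [r_eq _ _ _ _ (same h g₀ hh hg₀ e) y hyA]; exact huy
      · have htg : t * g₀ ∈ N := mul_mem (hPN ht) hg₀
        rw [r_eq _ _ _ _ (same h (t * g₀) hh htg (by
          rw [e, ← t_d₀, hd₀]; simp only [d]; group)) y hyA]
        have ti : t⁻¹ * y * t = y := by
          conv_lhs => rw [← hty]
          group
        calc U (t * g₀) * y * (U (t * g₀))⁻¹ = t * (U g₀ * (t⁻¹ * y * t) * (U g₀)⁻¹) * t⁻¹ := by
              simp only [U]; group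
          _ = y := by rw [ti, huy, hty]
    refine ⟨(v₁ * v₂)⁻¹, inv_mem (mul_mem hv₁ hv₂), y, hyR, ?_⟩
    rw [S.maxAb_comm ha haZ (inv_mem (mul_mem (hV_A hv₁) (hV_A hv₂))) hyA, hy]
    group
  · have hnd : ∀ g, g ∈ N → n * d g * n⁻¹ ∈ V := fun g hg => by
      have e : n * d g * n⁻¹ = d (n * g) := by simp only [d]; group
      rw [e]
      rcases three (n * g) (mul_mem hn hg) with h | h | h <;> rw [h]
      · exact (hVmem _).2 (Or.inr (Or.inl rfl))
      · exact (hVmem _).2 (Or.inr (Or.inr (Or.inl rfl)))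
      · exact (hVmem _).2 (Or.inr (Or.inr (Or.inr hcd)))
    have h1 : n * c * n⁻¹ ∈ V := by simpa [d_one] using hnd 1 h1N
    intro v hv
    rcases (hVmem v).1 hv with rfl | rfl | rfl | rfl
    · simp [one_mem]
    · exact h1
    · exact hnd g₀ hg₀
    · have e : n * (d₀ * c) * n⁻¹ = n * d₀ * n⁻¹ * (n * c * n⁻¹) := by group
      rw [e]
      exact mul_mem (hnd g₀ hg₀) h1
  · refine (hRmem _).2 ⟨hmem n hn r hr.1, fun h hh => ?_⟩
    have := ((hRmem r).1 hr).2 (n⁻¹ * h) (mul_mem (inv_mem hn) hh)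
    calc U h * (n * r * n⁻¹) = n * (U (n⁻¹ * h) * r) * n⁻¹ := by simp only [U]; group
      _ = n * (r * U (n⁻¹ * h)) * n⁻¹ := by rw [this]
      _ = n * r * n⁻¹ * U h := by simp only [U]; group
  · obtain ⟨τ, hτ, hτR, hτc⟩ : ∃ τ ∈ N, (∀ r ∈ R, τ * r * τ⁻¹ = r) ∧ τ * c * τ⁻¹ = d n := by
      have hfix : ∀ g, g ∈ N → ∀ r ∈ R, U g * r * (U g)⁻¹ = r := fun g hg r hr => by
        rw [((hRmem r).1 hr).2 g hg, mul_inv_cancel_right]
      rcases three n hn with e | e | e
      · exact ⟨1, h1N, fun r _ => by group, by rw [e]; group⟩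
      · refine ⟨t * U g₀, mul_mem (hPN ht) (hU g₀ hg₀), fun r hr => ?_, ?_⟩
        · calc t * U g₀ * r * (t * U g₀)⁻¹ = t * (U g₀ * r * (U g₀)⁻¹) * t⁻¹ := by group
            _ = r := by rw [hfix g₀ hg₀ r hr, ← U_one]; exact hfix 1 h1N r hr
        · calc t * U g₀ * c * (t * U g₀)⁻¹ = t * (U g₀ * c * (U g₀)⁻¹) * t⁻¹ := by group
            _ = t * c * t⁻¹ * (t * d₀ * t⁻¹) := by rw [u_c]; group
            _ = c * (c * d₀) := by rw [t_d₀, S.central c S.c_mem t ht, mul_inv_cancel_right]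
            _ = d n := by rw [← mul_assoc, S.c_sq, one_mul, e]
      · exact ⟨U g₀, hU g₀ hg₀, hfix g₀ hg₀, by rw [e]; exact u_c⟩
    set s := τ⁻¹ * n with hs
    have hsN : s ∈ N := mul_mem (inv_mem hτ) hn
    have hsc : d s⁻¹ = c := by
      have e1 : d s⁻¹ = n⁻¹ * (τ * c * τ⁻¹) * n := by simp only [d, hs]; group
      rw [e1, hτc]; simp only [d]; group
    let T : ↥N ⧸ C.subgroupOf N := r (U 1) (hU 1 h1N)
    have hT2 : T * T = 1 := rU_sq 1 h1N
    let M : Subgroup G := ((zpowers T).comap ρ).map N.subtype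
    have hPM : ∀ p ∈ (P : Subgroup G), ∀ (hpN : p ∈ N), r p hpN ∈ zpowers T := by
      intro p hp hpN
      by_cases hpa : p * a = a * p
      · have : r p hpN = 1 := r_one p hpN fun x hx => by
          rw [S.maxAb_comm ha haZ (mem_maxAb.2 ⟨hp, hpa⟩) hx, mul_inv_cancel_right]
        rw [this]; exact one_mem _
      · have h1 : p * t ∈ A := mem_maxAb.2 ⟨mul_mem hp ht, S.comm_mul ha hp ht hpa hta⟩
        have h2 : r (p * t) (mul_mem hpN (hPN ht)) = 1 := r_one _ _ fun x hx => by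
          rw [S.maxAb_comm ha haZ h1 hx, mul_inv_cancel_right]
        have h3 : r p hpN * T = 1 := by
          rw [← h2]
          show ρ ⟨p, hpN⟩ * ρ ⟨U 1, hU 1 h1N⟩ = ρ ⟨p * t, _⟩
          rw [← map_mul]
          exact congrArg ρ (Subtype.ext (by simp [U_one]))
        rw [eq_inv_of_mul_eq_one_left h3]
        exact inv_mem (mem_zpowers _)
    have h1 : (P : Subgroup G) ≤ M := fun p hp => ⟨⟨p, hPN hp⟩, hPM p hp (hPN hp), rfl⟩
    have h2 : ∀ p ∈ (P : Subgroup G), s⁻¹ * p * s ∈ M := by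
      intro p hp
      refine ⟨⟨s⁻¹ * p * s, mul_mem (mul_mem (inv_mem hsN) (hPN hp)) hsN⟩, ?_, rfl⟩
      obtain ⟨k, hk⟩ := hPM p hp (hPN hp)
      refine ⟨k, ?_⟩
      have e : r (U s⁻¹) (hU _ (inv_mem hsN)) = T := same s⁻¹ 1 (inv_mem hsN) h1N (by rw [hsc, d_one])
      have e' : r (U s⁻¹) (hU _ (inv_mem hsN)) = (ρ ⟨s, hsN⟩)⁻¹ * T * ρ ⟨s, hsN⟩ := by
        rw [← map_inv, ← map_mul, ← map_mul]
        exact congrArg ρ (Subtype.ext (by simp only [U, Subgroup.coe_mul, InvMemClass.coe_inv]; group))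
      show T ^ k = _
      have e'' : ρ ⟨s⁻¹ * p * s, mul_mem (mul_mem (inv_mem hsN) (hPN hp)) hsN⟩ =
          (ρ ⟨s, hsN⟩)⁻¹ * ρ ⟨p, hPN hp⟩ * ρ ⟨s, hsN⟩ := by
        rw [← map_inv, ← map_mul, ← map_mul]
        exact congrArg ρ (Subtype.ext rfl)
      have eT : (ρ ⟨s, hsN⟩)⁻¹ * T * (ρ ⟨s, hsN⟩)⁻¹⁻¹ = T := by rw [inv_inv, ← e', e]
      rw [e'', show ρ ⟨p, hPN hp⟩ = T ^ k from hk.symm]
      conv_lhs => rw [← eT, conj_zpow, inv_inv]
    obtain ⟨k, hk, hkn⟩ := CfsgLib.Transfer.exists_mul_mem_normalizer P M s h1 h2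
    obtain ⟨⟨k', hk'N⟩, hkT, rfl⟩ := hk
    refine ⟨s * k', hkn, mul_mem hsN hk'N, fun q hq => ?_⟩
    have hkq : k' * q * k'⁻¹ = q := by
      obtain ⟨i, hi⟩ := hkT
      rcases Int.even_or_odd i with ⟨j, rfl⟩ | ⟨j, rfl⟩
      · have h3 : T ^ (j + j) = 1 := by rw [← two_mul, zpow_mul, zpow_two, hT2, one_zpow]
        have h4 : r k' hk'N = r 1 h1N := (hi.symm.trans h3).trans (map_one ρ).symm
        rw [r_eq _ _ _ _ h4 q hq.1]; group
      · have h3 : T ^ (2 * j + 1) = T := by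
          rw [zpow_add, zpow_mul, zpow_two, hT2, one_zpow, one_mul, zpow_one]
        have h4 : r k' hk'N = r (U 1) (hU 1 h1N) := hi.symm.trans h3
        rw [r_eq _ _ _ _ h4 q hq.1, ((hRmem q).1 hq).2 1 h1N, mul_inv_cancel_right]
    have hq' : s * q * s⁻¹ ∈ R := by
      refine (hRmem _).2 ⟨hmem s hsN q hq.1, fun h hh => ?_⟩
      have := ((hRmem q).1 hq).2 (s⁻¹ * h) (mul_mem (inv_mem hsN) hh)
      calc U h * (s * q * s⁻¹) = s * (U (s⁻¹ * h) * q) * s⁻¹ := by simp only [U]; group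
        _ = s * (q * U (s⁻¹ * h)) * s⁻¹ := by rw [this]
        _ = s * q * s⁻¹ * U h := by simp only [U]; group
    calc n * q * n⁻¹ = τ * (s * q * s⁻¹) * τ⁻¹ := by rw [hs]; group
      _ = s * q * s⁻¹ := hτR _ hq'
      _ = s * (k' * q * k'⁻¹) * s⁻¹ := by rw [hkq]
      _ = s * k' * q * (s * k')⁻¹ := by group

/-- A member of the family below `P` moves `c`. -/
theorem Setup.ess_of_family (S : Setup P Z c) {a : G} (ha : a ∈ (P : Subgroup G)) (haZ : a ∉ Z)
    (hF : Family P (maxAb P a)) : Ess P Z c a := by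
  refine ⟨ha, haZ, ?_⟩
  by_contra hall
  push Not at hall
  obtain ⟨t, ht, hat⟩ := S.exists_partner ha haZ
  set N := normalizer (maxAb P a : Set G) with hN
  have hPN := S.le_normalizer_maxAb ha
  -- the elements acting on `A` through translations by `c`
  let M : Subgroup G :=
    { carrier := {m | m ∈ N ∧ ∀ x ∈ maxAb P a, m * x * m⁻¹ = x ∨ m * x * m⁻¹ = x * c}
      one_mem' := ⟨one_mem _, fun x _ => Or.inl (by group)⟩
      mul_mem' := fun {m k} hm hk => ⟨mul_mem hm.1 hk.1, fun x hx => by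
        have e : m * k * x * (m * k)⁻¹ = m * (k * x * k⁻¹) * m⁻¹ := by group
        have ec : m * (x * c) * m⁻¹ = m * x * m⁻¹ * c := by
          calc m * (x * c) * m⁻¹ = m * x * m⁻¹ * (m * c * m⁻¹) := by group
            _ = m * x * m⁻¹ * c := by rw [hall m hm.1]
        rcases hk.2 x hx with e1 | e1 <;> rcases hm.2 x hx with e2 | e2
        · exact Or.inl (by rw [e, e1, e2])
        · exact Or.inr (by rw [e, e1, e2])
        · exact Or.inr (by rw [e, e1, ec, e2])
        · exact Or.inl (by rw [e, e1, ec, e2, mul_assoc, S.c_sq, mul_one])⟩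
      inv_mem' := fun {m} hm => ⟨inv_mem hm.1, fun x hx => by
        have hc' : m⁻¹ * c * m = c := by
          have := hall m⁻¹ (inv_mem hm.1)
          simpa using this
        rcases hm.2 x hx with e | e
        · refine Or.inl ?_
          nth_rewrite 1 [← e]
          group
        · refine Or.inr ?_
          calc m⁻¹ * x * m⁻¹⁻¹ = m⁻¹ * (m * x * m⁻¹ * c) * m := by
                rw [e, mul_assoc x c c, S.c_sq, mul_one, inv_inv]
            _ = x * (m⁻¹ * c * m) := by group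
            _ = x * c := by rw [hc']⟩ }
  have hMN : M ≤ N := fun m hm => hm.1
  have htM : t ∈ M := ⟨hPN ht, fun x hx => S.conj_cases t ht x (mem_maxAb.1 hx).1⟩
  have hconj : ∀ n ∈ N, ∀ m ∈ M, n * m * n⁻¹ ∈ M := by
    intro n hn m hm
    refine ⟨mul_mem (mul_mem hn hm.1) (inv_mem hn), fun x hx => ?_⟩
    have hx' : n⁻¹ * x * n ∈ maxAb P a := by
      simpa using (mem_normalizer_iff.1 (inv_mem hn) x).1 hx
    rcases hm.2 _ hx' with e | e
    · left
      calc n * m * n⁻¹ * x * (n * m * n⁻¹)⁻¹ = n * (m * (n⁻¹ * x * n) * m⁻¹) * n⁻¹ := by group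
        _ = x := by rw [e]; group
    · right
      calc n * m * n⁻¹ * x * (n * m * n⁻¹)⁻¹ = n * (m * (n⁻¹ * x * n) * m⁻¹) * n⁻¹ := by group
        _ = x * (n * c * n⁻¹) := by rw [e]; group
        _ = x * c := by rw [hall n hn]
  have h := CfsgLib.DihProduct.family_radical hF hMN
    (fun n hn => CfsgLib.DihProduct.mem_normalizer_of_conj_mem (hconj n hn))
    (fun m hm => ⟨1, mem_centralizer_iff.2 fun x hx => ?_⟩) ⟨ht, htM⟩
  · exact hat ((mem_maxAb.1 h).2).symm
  · rw [pow_one, pow_two]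
    have e : m * m * x * (m * m)⁻¹ = m * (m * x * m⁻¹) * m⁻¹ := by group
    refine (mul_inv_eq_iff_eq_mul.1 (?_ : m * m * x * (m * m)⁻¹ = x)).symm
    rcases hm.2 x hx with e1 | e1
    · rw [e, e1, e1]
    · have e2 : m * (x * c) * m⁻¹ = m * x * m⁻¹ * (m * c * m⁻¹) := by group
      rw [e, e1, e2, e1, hall m hm.1, mul_assoc, S.c_sq, mul_one]

end CfsgLib.GWCons.IndexFour
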