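/-
A quasisimple group with a Sylow 2-subgroup `P` whose centre has index four and meets the centre of
the group trivially: `P` is dihedral of order eight.
-/
import Cfsg.Agent.Lib.GWCons.IndexFour.Transvection

set_option autoImplicit false
set_option linter.style.haveILetI false
set_option linter.unusedSectionVars false

open Subgroup Cfsg.Tech46.AlpGold

namespace CfsgLib.GWCons.IndexFour

local instance : Fact (Nat.Prime 2) := ⟨Nat.prime_two⟩

universe u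

variable {G : Type u} [Group G] [Finite G] {P : Sylow 2 G} {Z : Subgroup G} {c : G}

theorem Setup.conjugate_ess (S : Setup P Z c) {a n : G} (hE : Ess P Z c a)
    (hn : n ∈ normalizer ((P : Subgroup G) : Set G)) : Ess P Z c (n * a * n⁻¹) := by
  obtain ⟨ha, haZ, g, hg, hgc⟩ := hE
  have hnc := S.normalizer_fix hn
  have hnc' : n⁻¹ * c * n = c := by simpa using S.normalizer_fix (inv_mem hn)
  refine ⟨(mem_normalizer_iff.1 hn a).1 ha, fun h => haZ ?_, n * g * n⁻¹,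
    CfsgLib.DihProduct.mem_normalizer_of_conj_mem fun x hx => ?_, fun h => hgc ?_⟩
  · have := S.conj_mem_Z (inv_mem hn) h
    simpa [mul_assoc] using this
  · obtain ⟨hxP, hxa⟩ := mem_maxAb.1 hx
    have hy : n⁻¹ * x * n ∈ maxAb P a := by
      refine mem_maxAb.2 ⟨by simpa using (mem_normalizer_iff.1 (inv_mem hn) x).1 hxP, ?_⟩
      calc n⁻¹ * x * n * a = n⁻¹ * (x * (n * a * n⁻¹)) * n := by group
        _ = n⁻¹ * (n * a * n⁻¹ * x) * n := by rw [hxa]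
        _ = a * (n⁻¹ * x * n) := by group
    have hz := (mem_normalizer_iff.1 hg _).1 hy
    obtain ⟨hzP, hza⟩ := mem_maxAb.1 hz
    have e : n * g * n⁻¹ * x * (n * g * n⁻¹)⁻¹ = n * (g * (n⁻¹ * x * n) * g⁻¹) * n⁻¹ := by group
    rw [e]
    refine mem_maxAb.2 ⟨(mem_normalizer_iff.1 hn _).1 hzP, ?_⟩
    calc n * (g * (n⁻¹ * x * n) * g⁻¹) * n⁻¹ * (n * a * n⁻¹)
        = n * (g * (n⁻¹ * x * n) * g⁻¹ * a) * n⁻¹ := by group
      _ = n * (a * (g * (n⁻¹ * x * n) * g⁻¹)) * n⁻¹ := by rw [hza]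
      _ = n * a * n⁻¹ * (n * (g * (n⁻¹ * x * n) * g⁻¹) * n⁻¹) := by group
  · calc g * c * g⁻¹ = g * (n⁻¹ * c * n) * g⁻¹ := by rw [hnc']
      _ = n⁻¹ * (n * g * n⁻¹ * c * (n * g * n⁻¹)⁻¹) * n := by group
      _ = c := by rw [h, hnc']

/-- The odd part of the normalizer of `P` cannot swap two subgroups normalized by `P`. -/
theorem no_swap {A B : Subgroup G} (hA : (P : Subgroup G) ≤ normalizer (A : Set G)) {n : G}
    (hn : n ∈ normalizer ((P : Subgroup G) : Set G))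
    (hAB : ∀ x ∈ A, n * x * n⁻¹ ∈ B) (hBA : ∀ x ∈ B, n * x * n⁻¹ ∈ A) : ∀ x ∈ A, x ∈ B := by
  obtain ⟨k, m, hm, hkm⟩ := Nat.exists_eq_pow_mul_and_not_dvd (orderOf_pos n).ne' 2 (by norm_num)
  have h2 : IsPGroup 2 (zpowers (n ^ m)) := by
    refine IsPGroup.of_card (n := k) ?_
    rw [Nat.card_zpowers, orderOf_pow_of_dvd (by rintro rfl; exact hm (dvd_zero 2))
      (hkm ▸ dvd_mul_left m _), hkm, Nat.mul_div_cancel]
    exact Nat.pos_of_ne_zero (by rintro rfl; exact hm (dvd_zero 2))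
  have hnm : n ^ m ∈ (P : Subgroup G) := sylow_absorbs h2 (pow_mem hn m)
  obtain ⟨j, rfl⟩ : Odd m := Nat.odd_iff.2 (by omega)
  have heven : ∀ i : ℕ, ∀ x ∈ A, n ^ (2 * i) * x * (n ^ (2 * i))⁻¹ ∈ A := by
    intro i
    induction i with
    | zero => intro x hx; simpa using hx
    | succ i ih =>
      intro x hx
      have h1 := hBA _ (hAB _ (ih x hx))
      have e : n ^ (2 * (i + 1)) * x * (n ^ (2 * (i + 1)))⁻¹ =
          n * (n * (n ^ (2 * i) * x * (n ^ (2 * i))⁻¹) * n⁻¹) * n⁻¹ := by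
        rw [show 2 * (i + 1) = 2 + 2 * i by ring, pow_add, pow_two]; group
      rwa [e]
  intro x hx
  have hy : (n ^ (2 * j + 1))⁻¹ * x * n ^ (2 * j + 1) ∈ A := by
    simpa using (mem_normalizer_iff.1 (hA (inv_mem hnm)) x).1 hx
  have h1 := hAB _ (heven j _ hy)
  have e : n * (n ^ (2 * j) * ((n ^ (2 * j + 1))⁻¹ * x * n ^ (2 * j + 1)) * (n ^ (2 * j))⁻¹) * n⁻¹ = x := by
    rw [pow_succ']; group
  rwa [e] at h1

theorem Setup.maxAb_of_mem (S : Setup P Z c) {a v : G} (ha : a ∈ (P : Subgroup G)) (haZ : a ∉ Z)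
    (hv : v ∈ maxAb P a) (hvZ : v ∉ Z) : maxAb P v = maxAb P a := by
  refine le_antisymm (fun g hg => ?_) fun g hg => ?_
  · exact mem_maxAb.2 ⟨(mem_maxAb.1 hg).1, S.maxAb_comm (mem_maxAb.1 hv).1 hvZ hg
      (mem_maxAb.2 ⟨ha, (mem_maxAb.1 hv).2.symm⟩)⟩
  · exact mem_maxAb.2 ⟨(mem_maxAb.1 hg).1, S.maxAb_comm ha haZ hg hv⟩

theorem Setup.inter_le_Z (S : Setup P Z c) {a b x : G}
    (ha : a ∈ (P : Subgroup G)) (hb : b ∈ (P : Subgroup G)) (hab : a * b ≠ b * a)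
    (hxa : x ∈ maxAb P a) (hxb : x ∈ maxAb P b) : x ∈ Z := by
  by_contra hxZ
  exact hab (S.maxAb_comm (mem_maxAb.1 hxa).1 hxZ (mem_maxAb.2 ⟨ha, (mem_maxAb.1 hxa).2.symm⟩)
    (mem_maxAb.2 ⟨hb, (mem_maxAb.1 hxb).2.symm⟩))

theorem Setup.mem_maxAb_of_sq (S : Setup P Z c) {a b g : G} (ha : a ∈ (P : Subgroup G))
    (haZ : a ∉ Z) (hg : g ∈ (P : Subgroup G)) (hga : g * a ≠ a * g) (hb : b ∈ (P : Subgroup G))
    (hba : b * a ≠ a * b) : g⁻¹ * b ∈ maxAb P a := by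
  refine mem_maxAb.2 ⟨mul_mem (inv_mem hg) hb, S.comm_mul ha (inv_mem hg) hb (fun h => hga ?_) hba⟩
  exact (Commute.inv_left_iff.1 h).eq

/-- The dihedral case. -/
theorem Setup.dihedral (S : Setup P Z c) (hq : Cfsg.IsQuasisimple G)
    (h2 : ∀ z ∈ (P : Subgroup G), z ∈ center G → z = 1) :
    Nonempty ((P : Subgroup G) ≃* DihedralGroup 4) := by
  have hcP := S.c_mem_P
  have hcen : ∀ z ∈ Z, z ≠ 1 → z ∉ center G := fun z hz hz1 h => hz1 (h2 z (S.le hz) h)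
  have hPle : (P : Subgroup G) ≤ commutator G := by rw [commutator_eq_top hq]; exact le_top
  -- a member moves `c`
  obtain ⟨a₁, hE₁⟩ : ∃ a, Ess P Z c a := by
    by_contra h
    have hcfix : ∀ E, Family P E → ∀ n ∈ normalizer (E : Set G), ∀ x ∈ zpowers c, x ∈ E →
        n * x * n⁻¹ ∈ zpowers c := by
      intro E hE n hn x hx _
      rcases S.family_cases hE with rfl | ⟨a, ha, haZ, rfl⟩
      · rcases S.mem_one_c hx with rfl | rfl
        · simp
        · rw [S.normalizer_fix hn]; exact hx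
      · exact absurd ⟨a, S.ess_of_family ha haZ hE⟩ h
    have hcl := closed_of_family (zpowers_le.2 hcP) hcfix
    refine hcen c S.c_mem S.c_ne (center_of_isolated hq ⟨S.orderOf_c, fun g hg => ?_⟩)
    -- a commuting conjugate of `c` lies in a conjugate of `P` centralising `c`
    set w := g * c * g⁻¹ with hw
    have hwo : orderOf w = 2 := by
      rw [hw, ← MulAut.conj_apply, MulEquiv.orderOf_eq, S.orderOf_c]
    have hPC : (P : Subgroup G) ≤ centralizer ({c} : Set G) := fun p hp =>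
      mem_centralizer_singleton_iff.2 (S.central c S.c_mem p hp)
    have hwC : w ∈ centralizer ({c} : Set G) := mem_centralizer_singleton_iff.2 hg.eq.symm
    let PC : Sylow 2 ↥(centralizer ({c} : Set G)) := P.subtype hPC
    obtain ⟨Q, hQ⟩ := (IsPGroup.of_card (n := 1) (G := ↥(zpowers (⟨w, hwC⟩ :
      ↥(centralizer ({c} : Set G))))) (by
        rw [Nat.card_zpowers, ← orderOf_coe]; simpa using hwo)).exists_le_sylow
    obtain ⟨k, hk⟩ := MulAction.exists_smul_eq ↥(centralizer ({c} : Set G)) Q PC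
    have h1 : k * (⟨w, hwC⟩ : ↥(centralizer ({c} : Set G))) * k⁻¹ ∈
        (PC : Subgroup ↥(centralizer ({c} : Set G))) := by
      rw [← hk, Sylow.coe_subgroup_smul]
      exact ⟨_, hQ (mem_zpowers _), rfl⟩
    have h3 : (k : G) * w * (k : G)⁻¹ ∈ (P : Subgroup G) := h1
    have h4 := hcl.2 c (mem_zpowers c) ((k : G) * g) (by
      have e : (k : G) * g * c * ((k : G) * g)⁻¹ = k * w * (k : G)⁻¹ := by rw [hw]; group
      rwa [e])
    have hkc : (k : G)⁻¹ * c * k = c := by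
      rw [mul_assoc, ← mem_centralizer_singleton_iff.1 k.2, inv_mul_cancel_left]
    rcases S.mem_one_c h4 with e | e
    · refine absurd ?_ S.c_ne
      have e' : ((k : G) * g) * c * ((k : G) * g)⁻¹ = ((k : G) * g) * 1 * ((k : G) * g)⁻¹ := by
        rw [e]; group
      exact mul_left_cancel (mul_right_cancel e')
    · calc g * c * g⁻¹ = (k : G)⁻¹ * ((k : G) * g * c * ((k : G) * g)⁻¹) * k := by group
        _ = c := by rw [e, hkc]
  obtain ⟨ha₁, ha₁Z, -⟩ := id hE₁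
  have hA₁ := S.le_normalizer_maxAb ha₁
  have hA₁P : maxAb P a₁ ≤ (P : Subgroup G) := inf_le_left
  -- a second one, with a different centralizer
  obtain ⟨a₂, hE₂, h12⟩ : ∃ a, Ess P Z c a ∧ a * a₁ ≠ a₁ * a := by
    by_contra h
    push Not at h
    have hfix : ∀ n ∈ normalizer ((P : Subgroup G) : Set G), n * a₁ * n⁻¹ ∈ maxAb P a₁ := fun n hn =>
      mem_maxAb.2 ⟨(mem_normalizer_iff.1 hn a₁).1 ha₁, h _ (S.conjugate_ess hE₁ hn)⟩
    have hnA : ∀ n ∈ normalizer ((P : Subgroup G) : Set G), ∀ x ∈ maxAb P a₁,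
        n * x * n⁻¹ ∈ maxAb P a₁ := by
      intro n hn x hx
      have hne : n * a₁ * n⁻¹ ∉ Z := (S.conjugate_ess hE₁ hn).2.1
      rw [← S.maxAb_of_mem ha₁ ha₁Z (hfix n hn) hne]
      obtain ⟨hxP, hxa⟩ := mem_maxAb.1 hx
      refine mem_maxAb.2 ⟨(mem_normalizer_iff.1 hn x).1 hxP, ?_⟩
      calc n * x * n⁻¹ * (n * a₁ * n⁻¹) = n * (x * a₁) * n⁻¹ := by group
        _ = n * (a₁ * x) * n⁻¹ := by rw [hxa]
        _ = n * a₁ * n⁻¹ * (n * x * n⁻¹) := by group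
    have hle : (P : Subgroup G) ≤ maxAb P a₁ := by
      refine (le_inf hPle le_rfl).trans (focal_le fun E hE n hn x hx => ?_)
      rcases S.family_cases hE with rfl | ⟨a, ha, haZ, rfl⟩
      · by_cases hxa : x ∈ maxAb P a₁
        · exact mul_mem (inv_mem hxa) (hnA n hn x hxa)
        · have hy : n * x * n⁻¹ ∉ maxAb P a₁ := fun hy => hxa (by
            simpa [mul_assoc] using hnA n⁻¹ (inv_mem hn) _ hy)
          refine S.mem_maxAb_of_sq ha₁ ha₁Z hx (fun e => hxa (mem_maxAb.2 ⟨hx, e⟩))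
            ((mem_normalizer_iff.1 hn x).1 hx) fun e => hy (mem_maxAb.2 ⟨(mem_normalizer_iff.1 hn x).1 hx, e⟩)
      · have hEa := S.ess_of_family ha haZ hE
        have hmem : a ∈ maxAb P a₁ := mem_maxAb.2 ⟨ha, h a hEa⟩
        rw [S.maxAb_of_mem ha₁ ha₁Z hmem haZ] at hx hn
        exact mul_mem (inv_mem hx) ((mem_normalizer_iff.1 hn x).1 hx)
    obtain ⟨t, ht, hat⟩ := S.exists_partner ha₁ ha₁Z
    exact hat (mem_maxAb.1 (hle ht)).2.symm
  obtain ⟨ha₂, ha₂Z, -⟩ := id hE₂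
  obtain ⟨V₁, R₁, F₁⟩ := S.four hE₁
  obtain ⟨V₂, R₂, F₂⟩ := S.four hE₂
  obtain ⟨v₁, hv₁V, hv₁Z, hv₁2, hV₁⟩ := F₁.elems
  obtain ⟨v₂, hv₂V, hv₂Z, hv₂2, hV₂⟩ := F₂.elems
  have hv₁P : v₁ ∈ (P : Subgroup G) := hA₁P (F₁.V_le hv₁V)
  have hv₂P : v₂ ∈ (P : Subgroup G) := (mem_maxAb.1 (F₂.V_le hv₂V)).1
  have hvv : v₁ * v₂ ≠ v₂ * v₁ := fun e => by
    have h1 : v₂ ∈ maxAb P v₁ := mem_maxAb.2 ⟨hv₂P, e.symm⟩
    rw [S.maxAb_of_mem ha₁ ha₁Z (F₁.V_le hv₁V) hv₁Z] at h1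
    exact hv₂Z (S.inter_le_Z ha₁ ha₂ (fun e => h12 e.symm) h1 (F₂.V_le hv₂V))
  have hinter : ∀ x ∈ maxAb P a₁, x ∈ maxAb P a₂ → x ∈ Z := fun x =>
    S.inter_le_Z ha₁ ha₂ (fun e => h12 e.symm)
  -- the commutator involution is not a square of a central element
  have hsq : ∀ z ∈ Z, z * z ≠ c := by
    intro z hz e
    obtain ⟨v, hv, r, hr, hvr⟩ := F₁.decomp z (S.le_maxAb ha₁ hz)
    have hvv' : v * v = 1 := by
      rcases hV₁ v hv with rfl | rfl | rfl | rfl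
      · exact one_mul 1
      · exact S.c_sq
      · exact hv₁2
      · rw [mul_assoc, ← mul_assoc c, ← S.central c S.c_mem v₁ hv₁P, mul_assoc v₁ c c, S.c_sq,
          mul_one, hv₁2]
    refine S.c_ne (F₁.disj c F₁.c_mem ?_)
    have hvP : v ∈ (P : Subgroup G) := hA₁P (F₁.V_le hv)
    have h' : c = r * r := by
      rw [← e, hvr, mul_assoc, ← mul_assoc r, ← S.central r (F₁.R_le hr) v hvP, mul_assoc, ← mul_assoc,
        hvv', one_mul]
    rw [h']
    exact mul_mem hr hr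
  -- only two members
  have htwo : ∀ a, Ess P Z c a → a ∈ maxAb P a₁ ∨ a ∈ maxAb P a₂ := by
    intro a hE
    obtain ⟨haP, haZ, -⟩ := id hE
    obtain ⟨V, R, F⟩ := S.four hE
    obtain ⟨v, hvV, hvZ, hv2, -⟩ := F.elems
    have hvA := F.V_le hvV
    have hvP := (mem_maxAb.1 hvA).1
    have back : ∀ b, b ∈ (P : Subgroup G) → b ∉ Z → v ∈ maxAb P b → a ∈ maxAb P b := by
      intro b hb hbZ hvb
      have h1 : a ∈ maxAb P v := mem_maxAb.2 ⟨haP, (mem_maxAb.1 hvA).2.symm⟩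
      rwa [S.maxAb_of_mem hb hbZ hvb hvZ] at h1
    rcases S.cover v₁ hv₁P v₂ hv₂P hvv v hvP with h | h | h | h
    · exact absurd h hvZ
    · refine Or.inl (back a₁ ha₁ ha₁Z ?_)
      simpa using mul_mem (S.le_maxAb ha₁ h) (F₁.V_le hv₁V)
    · refine Or.inr (back a₂ ha₂ ha₂Z ?_)
      simpa using mul_mem (S.le_maxAb ha₂ h) (F₂.V_le hv₂V)
    · exfalso
      obtain ⟨z, hz, hzv⟩ : ∃ z ∈ Z, v = z * (v₁ * v₂) := ⟨_, h, by group⟩
      have e1 := S.conj_of_ne hv₂P hv₁P (fun e => hvv e.symm)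
      have e2 : (v₁ * v₂) * (v₁ * v₂) = c := by
        calc (v₁ * v₂) * (v₁ * v₂) = v₁ * (v₂ * v₁ * v₂⁻¹) * (v₂ * v₂) := by group
          _ = c := by rw [e1, hv₂2, ← mul_assoc, hv₁2, one_mul, mul_one]
      have e3 : v * v = z * z * c := by
        rw [hzv, ← e2, mul_assoc, ← mul_assoc (v₁ * v₂), S.central z hz _ (mul_mem hv₁P hv₂P)]
        group
      rw [hv2] at e3
      refine hsq z hz ?_
      calc z * z = z * z * (c * c) := by rw [S.c_sq, mul_one]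
        _ = c := by rw [← mul_assoc, ← e3, one_mul]
  -- the normalizer of `P` fixes both
  have hN : ∀ n ∈ normalizer ((P : Subgroup G) : Set G),
      n ∈ normalizer (maxAb P a₁ : Set G) ∧ n ∈ normalizer (maxAb P a₂ : Set G) := by
    have himg : ∀ b, Ess P Z c b → ∀ n ∈ normalizer ((P : Subgroup G) : Set G),
        (∀ x ∈ maxAb P b, n * x * n⁻¹ ∈ maxAb P a₁) ∨ (∀ x ∈ maxAb P b, n * x * n⁻¹ ∈ maxAb P a₂) := by
      intro b hb n hn
      obtain ⟨hbP, hbZ, -⟩ := id hb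
      have hb' := S.conjugate_ess hb hn
      have hconj : ∀ x ∈ maxAb P b, n * x * n⁻¹ ∈ maxAb P (n * b * n⁻¹) := fun x hx => by
        obtain ⟨hxP, hxa⟩ := mem_maxAb.1 hx
        refine mem_maxAb.2 ⟨(mem_normalizer_iff.1 hn x).1 hxP, ?_⟩
        calc n * x * n⁻¹ * (n * b * n⁻¹) = n * (x * b) * n⁻¹ := by group
          _ = n * (b * x) * n⁻¹ := by rw [hxa]
          _ = n * b * n⁻¹ * (n * x * n⁻¹) := by group
      rcases htwo _ hb' with h | h
      · refine Or.inl fun x hx => ?_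
        rw [← S.maxAb_of_mem ha₁ ha₁Z h hb'.2.1]; exact hconj x hx
      · refine Or.inr fun x hx => ?_
        rw [← S.maxAb_of_mem ha₂ ha₂Z h hb'.2.1]; exact hconj x hx
    have h1not : ¬ ∀ x ∈ maxAb P a₁, x ∈ maxAb P a₂ := fun h =>
      ha₁Z (hinter a₁ (self_mem_maxAb ha₁) (h a₁ (self_mem_maxAb ha₁)))
    have h2not : ¬ ∀ x ∈ maxAb P a₂, x ∈ maxAb P a₁ := fun h =>
      ha₂Z (hinter a₂ (h a₂ (self_mem_maxAb ha₂)) (self_mem_maxAb ha₂))
    intro n hn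
    -- the two subgroups cannot be sent into the same one
    have hinj : ∀ d, d ∈ (P : Subgroup G) → d ∉ Z →
        (∀ x ∈ maxAb P a₁, n * x * n⁻¹ ∈ maxAb P d) →
        ¬ ∀ x ∈ maxAb P a₂, n * x * n⁻¹ ∈ maxAb P d := fun d hd hdZ h h' => h12 (by
      have e := S.maxAb_comm hd hdZ (h' a₂ (self_mem_maxAb ha₂)) (h a₁ (self_mem_maxAb ha₁))
      have e' : n * (a₂ * a₁) * n⁻¹ = n * (a₁ * a₂) * n⁻¹ := by
        calc n * (a₂ * a₁) * n⁻¹ = n * a₂ * n⁻¹ * (n * a₁ * n⁻¹) := by group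
          _ = n * a₁ * n⁻¹ * (n * a₂ * n⁻¹) := e
          _ = n * (a₁ * a₂) * n⁻¹ := by group
      exact mul_left_cancel (mul_right_cancel e'))
    refine ⟨CfsgLib.DihProduct.mem_normalizer_of_conj_mem ?_,
      CfsgLib.DihProduct.mem_normalizer_of_conj_mem ?_⟩
    · rcases himg a₁ hE₁ n hn with h | h
      · exact h
      · rcases himg a₂ hE₂ n hn with h' | h'
        · exact absurd (no_swap hA₁ hn h h') h1not
        · exact absurd h' (hinj a₂ ha₂ ha₂Z h)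
    · rcases himg a₂ hE₂ n hn with h | h
      · rcases himg a₁ hE₁ n hn with h' | h'
        · exact absurd h (hinj a₁ ha₁ ha₁Z h')
        · exact absurd (no_swap hA₁ hn h' h) h1not
      · exact h
  -- the two factors
  set D := V₁ ⊔ V₂ with hD
  have hPV₁ : (P : Subgroup G) ≤ normalizer (V₁ : Set G) := fun p hp =>
    CfsgLib.DihProduct.mem_normalizer_of_conj_mem (F₁.norm_V p (hA₁ hp))
  have hV₁P : V₁ ≤ (P : Subgroup G) := F₁.V_le.trans hA₁P
  have hV₂P : V₂ ≤ (P : Subgroup G) := F₂.V_le.trans inf_le_left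
  have hcen' : ∀ z ∈ Z, ∀ g ∈ (P : Subgroup G), z * g = g * z := fun z hz g hg =>
    (S.central z hz g hg).symm
  have hDP : D ≤ (P : Subgroup G) := sup_le hV₁P hV₂P
  have hVV : V₂ ≤ normalizer (V₁ : Set G) := hV₂P.trans hPV₁
  have hDmem : ∀ x ∈ D, ∃ u ∈ V₁, ∃ w ∈ V₂, x = u * w := fun x hx => by
    obtain ⟨u, hu, w, hw, e⟩ := CfsgLib.Techniques.exists_mul_of_mem_sup' hVV
      (show x ∈ V₂ ⊔ V₁ by rwa [sup_comm])
    exact ⟨u, hu, w, hw, e.symm⟩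
  have hc₂ : ∀ w ∈ V₂, w ∈ Z → w ∈ V₁ := fun w hw hwZ => by
    rcases F₂.V_Z w hw hwZ with rfl | rfl
    exacts [one_mem _, F₁.c_mem]
  have hDA₁ : ∀ x ∈ D, x ∈ maxAb P a₁ → x ∈ V₁ := by
    intro x hx hxA
    obtain ⟨u, hu, w, hw, rfl⟩ := hDmem x hx
    have hwA : w ∈ maxAb P a₁ := by simpa using mul_mem (inv_mem (F₁.V_le hu)) hxA
    exact mul_mem hu (hc₂ w hw (hinter w hwA (F₂.V_le hw)))
  have hDA₂ : ∀ x ∈ D, x ∈ maxAb P a₂ → x ∈ V₂ := by
    intro x hx hxA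
    obtain ⟨u, hu, w, hw, rfl⟩ := hDmem x hx
    have huA : u ∈ maxAb P a₂ := by simpa using mul_mem hxA (inv_mem (F₂.V_le hw))
    refine mul_mem ?_ hw
    rcases F₁.V_Z u hu (hinter u (F₁.V_le hu) huA) with rfl | rfl
    exacts [one_mem _, F₂.c_mem]
  -- differences of central elements lie in both complements
  have hdiff : ∀ V R a, Four P Z c (maxAb P a) V R → a ∈ (P : Subgroup G) →
      ∀ n ∈ normalizer ((P : Subgroup G) : Set G), n ∈ normalizer (maxAb P a : Set G) →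
      ∀ z ∈ Z, z⁻¹ * (n * z * n⁻¹) ∈ R := by
    intro V R a F ha n hn hnA z hz
    obtain ⟨v, hv, r, hr, rfl⟩ := F.decomp z (S.le_maxAb ha hz)
    have hvZ : v ∈ Z := by simpa using mul_mem hz (inv_mem (F.R_le hr))
    have hnv : n * v * n⁻¹ = v := by
      rcases F.V_Z v hv hvZ with rfl | rfl
      · group
      · exact S.normalizer_fix hn
    have e : (v * r)⁻¹ * (n * (v * r) * n⁻¹) = r⁻¹ * (n * r * n⁻¹) := by
      calc (v * r)⁻¹ * (n * (v * r) * n⁻¹) = r⁻¹ * v⁻¹ * (n * v * n⁻¹) * (n * r * n⁻¹) := by group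
        _ = r⁻¹ * (n * r * n⁻¹) := by rw [hnv]; group
    rw [e]
    exact mul_mem (inv_mem hr) (F.norm_R n hnA r hr)
  have hR12 : ∀ n ∈ normalizer ((P : Subgroup G) : Set G), ∀ z ∈ Z,
      z⁻¹ * (n * z * n⁻¹) ∈ R₁ ⊓ R₂ := fun n hn z hz =>
    ⟨hdiff V₁ R₁ a₁ F₁ ha₁ n hn (hN n hn).1 z hz, hdiff V₂ R₂ a₂ F₂ ha₂ n hn (hN n hn).2 z hz⟩
  have hDn : ∀ n ∈ normalizer ((P : Subgroup G) : Set G), ∀ x ∈ D, n * x * n⁻¹ ∈ D := by
    intro n hn x hx
    obtain ⟨u, hu, w, hw, rfl⟩ := hDmem x hx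
    have e : n * (u * w) * n⁻¹ = n * u * n⁻¹ * (n * w * n⁻¹) := by group
    rw [e]
    exact mul_mem (mem_sup_left (F₁.norm_V n (hN n hn).1 u hu))
      (mem_sup_right (F₂.norm_V n (hN n hn).2 w hw))
  -- `P = D Z`
  have hPD : ∀ x ∈ (P : Subgroup G), ∃ d ∈ D, ∃ z ∈ Z, x = z * d := by
    intro x hx
    rcases S.cover v₁ hv₁P v₂ hv₂P hvv x hx with h | h | h | h
    · exact ⟨1, one_mem _, x, h, by rw [mul_one]⟩
    · exact ⟨v₁, mem_sup_left hv₁V, _, h, by group⟩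
    · exact ⟨v₂, mem_sup_right hv₂V, _, h, by group⟩
    · exact ⟨v₁ * v₂, mul_mem (mem_sup_left hv₁V) (mem_sup_right hv₂V), _, h, by group⟩
  -- which member a member of the family is
  have hfam : ∀ E, Family P E → E = (P : Subgroup G) ∨ E = maxAb P a₁ ∨ E = maxAb P a₂ := by
    intro E hE
    rcases S.family_cases hE with rfl | ⟨a, ha, haZ, rfl⟩
    · exact Or.inl rfl
    · rcases htwo a (S.ess_of_family ha haZ hE) with h | h
      · exact Or.inr (Or.inl (S.maxAb_of_mem ha₁ ha₁Z h haZ))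
      · exact Or.inr (Or.inr (S.maxAb_of_mem ha₂ ha₂Z h haZ))
  -- the focal subgroup
  set F := D ⊔ (R₁ ⊓ R₂) with hF
  have hFA : ∀ V R a, Four P Z c (maxAb P a) V R → a ∈ (P : Subgroup G) → V ≤ D →
      ∀ n ∈ normalizer (maxAb P a : Set G), ∀ x ∈ maxAb P a, x⁻¹ * (n * x * n⁻¹) ∈ F := by
    intro V R a Fa ha hVD n hn x hx
    obtain ⟨v, hv, r, hr, rfl⟩ := Fa.decomp x hx
    obtain ⟨m, hm, -, hmr⟩ := Fa.norm_P n hn
    have hr' : r⁻¹ * (n * r * n⁻¹) ∈ R₁ ⊓ R₂ := by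
      rw [hmr r hr]; exact hR12 m hm r (Fa.R_le hr)
    have hv' : v⁻¹ * (n * v * n⁻¹) ∈ D := hVD (mul_mem (inv_mem hv) (Fa.norm_V n hn v hv))
    have hvP : v ∈ (P : Subgroup G) := (mem_maxAb.1 (Fa.V_le hv)).1
    have hnvP : n * v * n⁻¹ ∈ (P : Subgroup G) := (mem_maxAb.1 (Fa.V_le (Fa.norm_V n hn v hv))).1
    have e1 := hcen' r⁻¹ (inv_mem (Fa.R_le hr)) _ (mul_mem (inv_mem hvP) hnvP)
    have e : (v * r)⁻¹ * (n * (v * r) * n⁻¹) = v⁻¹ * (n * v * n⁻¹) * (r⁻¹ * (n * r * n⁻¹)) := by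
      calc (v * r)⁻¹ * (n * (v * r) * n⁻¹) = r⁻¹ * (v⁻¹ * (n * v * n⁻¹)) * (n * r * n⁻¹) := by group
        _ = _ := by rw [e1]; group
    rw [e]
    exact mul_mem (mem_sup_left hv') (mem_sup_right hr')
  have hPF : (P : Subgroup G) ≤ F := by
    refine (le_inf hPle le_rfl).trans (focal_le fun E hE n hn x hx => ?_)
    rcases hfam E hE with rfl | rfl | rfl
    · obtain ⟨d, hd, z, hz, rfl⟩ := hPD x hx
      have h1 := hR12 n hn z hz
      have h3 : d⁻¹ * (n * d * n⁻¹) ∈ D := mul_mem (inv_mem hd) (hDn n hn d hd)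
      have e : (z * d)⁻¹ * (n * (z * d) * n⁻¹) = (z⁻¹ * (n * z * n⁻¹)) * (d⁻¹ * (n * d * n⁻¹)) := by
        calc (z * d)⁻¹ * (n * (z * d) * n⁻¹) =
              d⁻¹ * (z⁻¹ * (n * z * n⁻¹)) * (n * d * n⁻¹) := by group
          _ = _ := by rw [← hcen' _ (F₁.R_le h1.1) _ (inv_mem (hDP hd))]; group
      rw [e]
      exact mul_mem (mem_sup_right h1) (mem_sup_left h3)
    · exact hFA V₁ R₁ a₁ F₁ ha₁ le_sup_left n hn x hx
    · exact hFA V₂ R₂ a₂ F₂ ha₂ le_sup_right n hn x hx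
  -- the two complements agree
  have hFmem : ∀ x ∈ F, ∃ d ∈ D, ∃ q ∈ R₁ ⊓ R₂, x = d * q := fun x hx => by
    have hle : D ≤ normalizer ((R₁ ⊓ R₂ : Subgroup G) : Set G) := fun d hd =>
      CfsgLib.DihProduct.mem_normalizer_of_conj_mem fun q hq => by
        rw [← hcen' q (F₁.R_le hq.1) d (hDP hd), mul_inv_cancel_right]; exact hq
    obtain ⟨d, hd, q, hq, e⟩ := CfsgLib.Techniques.exists_mul_of_mem_sup hle hx
    exact ⟨d, hd, q, hq, e.symm⟩
  have hRR : ∀ r ∈ R₁, r ∈ R₂ := by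
    intro r hr
    obtain ⟨d, hd, q, hq, e⟩ := hFmem r (hPF (S.le (F₁.R_le hr)))
    have hd1 : d = r * q⁻¹ := by rw [e, mul_inv_cancel_right]
    have hdR : d ∈ R₁ := hd1 ▸ mul_mem hr (inv_mem hq.1)
    have h1 := F₁.disj d (hDA₁ d hd (F₁.R_le' hdR)) hdR
    rw [e, h1, one_mul]
    exact hq.2
  have hRR' : ∀ r ∈ R₂, r ∈ R₁ := by
    intro r hr
    obtain ⟨d, hd, q, hq, e⟩ := hFmem r (hPF (S.le (F₂.R_le hr)))
    have hd1 : d = r * q⁻¹ := by rw [e, mul_inv_cancel_right]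
    have hdR : d ∈ R₂ := hd1 ▸ mul_mem hr (inv_mem hq.2)
    have h1 := F₂.disj d (hDA₂ d hd (F₂.R_le' hdR)) hdR
    rw [e, h1, one_mul]
    exact hq.1
  have hR : R₂ = R₁ := le_antisymm hRR' hRR
  subst hR
  -- strongly closed factors
  have hDcl : Cfsg.IsStronglyClosed D (P : Subgroup G) := by
    refine closed_of_family hDP fun E hE n hn x hx hxE => ?_
    rcases hfam E hE with rfl | rfl | rfl
    · exact hDn n hn x hx
    · exact mem_sup_left (F₁.norm_V n hn x (hDA₁ x hx hxE))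
    · exact mem_sup_right (F₂.norm_V n hn x (hDA₂ x hx hxE))
  have hRcl : Cfsg.IsStronglyClosed R₂ (P : Subgroup G) := by
    refine closed_of_family (F₁.R_le.trans S.le) fun E hE n hn x hx _ => ?_
    rcases hfam E hE with rfl | rfl | rfl
    · exact F₁.norm_R n (hN n hn).1 x hx
    · exact F₁.norm_R n hn x hx
    · exact F₂.norm_R n hn x hx
  have hdisj : D ⊓ R₂ = ⊥ := by
    rw [eq_bot_iff]
    intro x hx
    exact mem_bot.2 (F₁.disj x (hDA₁ x hx.1 (F₁.R_le' hx.2)) hx.2)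
  have hRbot : ∀ r ∈ R₂, r = 1 := by
    intro r hr
    by_contra hr1
    exact pair_false hq S.orderOf_c
      ⟨P, D, R₂, fun x hx y hy => (hcen' y (F₁.R_le hy) x (hDP hx)).symm, hdisj, hDcl, hRcl⟩
      (fun h => hcen c S.c_mem S.c_ne (h (mem_sup_left F₁.c_mem)))
      (fun h => hcen r (F₁.R_le hr) hr1 (h hr))
  -- `P` is generated by two involutions with product of order four
  have hZc : ∀ z ∈ Z, z = 1 ∨ z = c := by
    intro z hz
    obtain ⟨v, hv, r, hr, rfl⟩ := F₁.decomp z (S.le_maxAb ha₁ hz)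
    rw [hRbot r hr, mul_one] at hz ⊢
    exact F₁.V_Z v hv hz
  have e1 := S.conj_of_ne hv₂P hv₁P (fun e => hvv e.symm)
  have hprod : (v₁ * v₂) * (v₁ * v₂) = c := by
    calc (v₁ * v₂) * (v₁ * v₂) = v₁ * (v₂ * v₁ * v₂⁻¹) * (v₂ * v₂) := by group
      _ = c := by rw [e1, hv₂2, ← mul_assoc, hv₁2, one_mul, mul_one]
  have o₁ : orderOf v₁ = 2 :=
    orderOf_eq_prime (by rw [pow_two]; exact hv₁2) fun h => hv₁Z (h ▸ one_mem _)
  have o₂ : orderOf v₂ = 2 :=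
    orderOf_eq_prime (by rw [pow_two]; exact hv₂2) fun h => hv₂Z (h ▸ one_mem _)
  have o₁₂ : orderOf (v₁ * v₂) = 4 := by
    refine orderOf_eq_prime_pow (p := 2) (n := 1) ?_ ?_
    · rw [pow_one, pow_two, hprod]; exact S.c_ne
    · rw [show (2 : ℕ) ^ (1 + 1) = 2 * 2 by norm_num, pow_mul, pow_two (v₁ * v₂), hprod, pow_two,
        S.c_sq]
  have hgen : closure ({v₁, v₂} : Set G) = (P : Subgroup G) := by
    refine le_antisymm ((closure_le _).2 (Set.insert_subset hv₁P (Set.singleton_subset_iff.2 hv₂P)))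
      fun g hg => ?_
    have h₁ : v₁ ∈ closure ({v₁, v₂} : Set G) := subset_closure (Or.inl rfl)
    have h₂ : v₂ ∈ closure ({v₁, v₂} : Set G) := subset_closure (Or.inr rfl)
    have hc : ∀ z ∈ Z, z ∈ closure ({v₁, v₂} : Set G) := fun z hz => by
      rcases hZc z hz with rfl | rfl
      · exact one_mem _
      · rw [← hprod]; exact mul_mem (mul_mem h₁ h₂) (mul_mem h₁ h₂)
    rcases S.cover v₁ hv₁P v₂ hv₂P hvv g hg with h | h | h | h
    · exact hc g h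
    · simpa using mul_mem (hc _ h) h₁
    · simpa using mul_mem (hc _ h) h₂
    · simpa [mul_assoc] using mul_mem (hc _ h) (mul_mem h₁ h₂)
  obtain ⟨e⟩ := CfsgLib.Involutions.closure_pair_mulEquiv_dihedral o₁ o₂
  rw [o₁₂] at e
  exact ⟨(MulEquiv.subgroupCongr hgen.symm).trans e⟩

end CfsgLib.GWCons.IndexFour
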