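/-
The case where the commutator involution is central in the group: fusion is controlled by the
normalizer of `P` modulo `c`, and strongly closed pairs come from invariant subgroups.
-/
import Cfsg.Agent.Lib.GWCons.IndexFour.Base

set_option autoImplicit false
set_option linter.style.haveILetI false
set_option linter.unusedSectionVars false

open Subgroup
open scoped commutatorElement

namespace CfsgLib.GWCons.IndexFour

local instance : Fact (Nat.Prime 2) := ⟨Nat.prime_two⟩

universe u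

variable {G : Type u} [Group G] [Finite G] {P : Sylow 2 G} {Z : Subgroup G} {c : G}

/-- Fusion modulo `c` is controlled by the normalizer of `P`. -/
theorem Setup.conj_mod (S : Setup P Z c) (hq : Cfsg.IsQuasisimple G) (hc : c ∈ center G) {x g : G}
    (hx : x ∈ (P : Subgroup G)) (hy : g * x * g⁻¹ ∈ (P : Subgroup G)) :
    ∃ n ∈ normalizer ((P : Subgroup G) : Set G),
      g * x * g⁻¹ = n * x * n⁻¹ ∨ g * x * g⁻¹ = n * x * n⁻¹ * c := by
  set π := QuotientGroup.mk' (center G) with hπ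
  have hπc : π c = 1 := (QuotientGroup.eq_one_iff c).2 hc
  have hπcomm : ∀ p ∈ (P : Subgroup G), ∀ z ∈ (P : Subgroup G), π p * π z = π z * π p := by
    intro p hp z hz
    refine mul_inv_eq_iff_eq_mul.1 ?_
    rw [← map_mul, ← map_inv, ← map_mul]
    rcases S.conj_cases p hp z hz with e | e <;> rw [e]
    rw [map_mul, hπc, mul_one]
  let Pb : Sylow 2 (G ⧸ center G) := P.mapSurjective (f := π) (QuotientGroup.mk'_surjective _)
  have hfix : ∀ z ∈ (P : Subgroup G), ∀ q ∈ Pb, (fun u => q * u * q⁻¹) '' ({π z} : Set _) = {π z} := by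
    rintro z hz _ ⟨p, hp, rfl⟩
    rw [Set.image_singleton, hπcomm p hp z hz, mul_inv_cancel_right]
  obtain ⟨k, hk, hn⟩ := CfsgLib.Transfer.exists_normalizer_of_image_eq Pb {π x} {π (g * x * g⁻¹)}
    (hfix x hx) (hfix _ hy) (π g) (by rw [Set.image_singleton, map_mul, map_mul, map_inv])
  rw [Set.image_singleton, Set.singleton_eq_singleton_iff] at hk
  obtain ⟨k', rfl⟩ := QuotientGroup.mk'_surjective (center G) k
  rw [← hπ] at hk hn
  rw [← map_mul] at hn
  set n := g * k' with hndef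
  have hnP : n ∈ normalizer ((P : Subgroup G) : Set G) := by
    have hmem : ∀ p ∈ (P : Subgroup G), n * p * n⁻¹ ∈ (P : Subgroup G) := by
      intro p hp
      obtain ⟨p', hp', e⟩ := (mem_normalizer_iff.1 hn (π p)).1 (mem_map_of_mem π hp)
      rw [← map_inv, ← map_mul, ← map_mul] at e
      set z := p'⁻¹ * (n * p * n⁻¹) with hz
      have hzc : z ∈ center G := by
        rw [← QuotientGroup.eq_one_iff]
        show π z = 1
        rw [hz, map_mul π p'⁻¹, ← e, ← map_mul, inv_mul_cancel, map_one]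
      have hz2 : IsPGroup 2 (zpowers z) := by
        obtain ⟨i, hi⟩ := P.isPGroup' ⟨p', hp'⟩
        obtain ⟨j, hj⟩ := P.isPGroup' ⟨p, hp⟩
        have hi' : p' ^ 2 ^ i = 1 := congrArg Subtype.val hi
        have hj' : p ^ 2 ^ j = 1 := congrArg Subtype.val hj
        have hcomm : Commute p'⁻¹ (n * p * n⁻¹) := by
          have e1 : n * p * n⁻¹ = p' * z := by rw [hz]; group
          rw [e1]
          exact ((Commute.refl p').inv_left).mul_right (mem_center_iff.1 hzc _)
        have hzp : z ^ 2 ^ (i + j) = 1 := by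
          rw [hz, hcomm.mul_pow, inv_pow, conj_pow, pow_add, pow_mul, hi', one_pow, mul_comm (2 ^ i),
            pow_mul, hj', one_pow, mul_one, mul_inv_cancel, inv_one, one_mul]
        intro w
        obtain ⟨k, hk⟩ := w.2
        refine ⟨i + j, Subtype.ext ?_⟩
        rw [Subgroup.coe_pow, Subgroup.coe_one, ← hk, ← zpow_natCast, ← zpow_mul, mul_comm, zpow_mul,
          zpow_natCast, hzp, one_zpow]
      have hzP := sylow_absorbs (P := P) hz2 (mem_normalizer_iff.2 fun h => by
        rw [← mem_center_iff.1 hzc h, mul_inv_cancel_right])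
      have e2 : n * p * n⁻¹ = p' * z := by rw [hz]; group
      rw [e2]
      exact mul_mem hp' hzP
    refine CfsgLib.Transfer.mem_normalizer_of_map_conj_eq (eq_of_le_of_card_ge ?_ ?_)
    · rintro _ ⟨p, hp, rfl⟩
      exact hmem p hp
    · rw [card_map_of_injective (MulAut.conj n).injective]
  refine ⟨n, hnP, ?_⟩
  have hdiff : (n * x * n⁻¹)⁻¹ * (g * x * g⁻¹) ∈ center G := by
    rw [← QuotientGroup.eq_one_iff]
    show π _ = 1
    rw [hndef]
    simp only [map_mul, map_inv, mul_inv_rev, inv_inv]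
    calc π g * π k' * ((π x)⁻¹ * ((π k')⁻¹ * (π g)⁻¹)) * (π g * π x * (π g)⁻¹)
        = π g * (π k' * π x * (π k')⁻¹)⁻¹ * π x * (π g)⁻¹ := by group
      _ = 1 := by rw [hk]; group
  have hnx : n * x * n⁻¹ ∈ (P : Subgroup G) := (mem_normalizer_iff.1 hnP x).1 hx
  rcases S.center_cases hq hdiff (mul_mem (inv_mem hnx) hy) with e | e
  · exact Or.inl (inv_mul_eq_one.1 e).symm
  · exact Or.inr (eq_mul_of_inv_mul_eq e)

/-- A subgroup through `c` containing all differences of `N(P)`-conjugate elements contains `P`. -/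
theorem Setup.le_of_diff (S : Setup P Z c) (hq : Cfsg.IsQuasisimple G) (hc : c ∈ center G)
    {F : Subgroup G} (hcF : c ∈ F)
    (h : ∀ n ∈ normalizer ((P : Subgroup G) : Set G), ∀ x ∈ (P : Subgroup G),
      x⁻¹ * (n * x * n⁻¹) ∈ F) : (P : Subgroup G) ≤ F := by
  have hPle : (P : Subgroup G) ≤ commutator G := by rw [commutator_eq_top hq]; exact le_top
  refine (le_inf hPle le_rfl).trans ?_
  rw [commutator_inf_eq_focalSubgroup P, focalSubgroup_def, closure_le]
  rintro z ⟨hz, x, hx, u, rfl⟩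
  have h1 : u * x⁻¹ * u⁻¹ ∈ (P : Subgroup G) := by
    have := mul_mem (inv_mem hx) hz
    simpa [commutatorElement_def, mul_assoc] using this
  obtain ⟨n, hn, e⟩ := S.conj_mod hq hc (inv_mem hx) h1
  have h2 := h n hn x⁻¹ (inv_mem hx)
  rw [inv_inv] at h2
  have e0 : ⁅x, u⁆ = x * (u * x⁻¹ * u⁻¹) := by rw [commutatorElement_def]; group
  rw [SetLike.mem_coe, e0]
  rcases e with e | e <;> rw [e]
  · exact h2
  · rw [← mul_assoc]; exact mul_mem h2 hcF

/-- No invariant pair. -/
theorem Setup.invariant_pair_false (S : Setup P Z c) (hq : Cfsg.IsQuasisimple G) (hc : c ∈ center G)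
    (U R : Subgroup G) (hUP : U ≤ (P : Subgroup G)) (hcU : c ∈ U)
    (hUn : ∀ n ∈ normalizer ((P : Subgroup G) : Set G), ∀ x ∈ U, n * x * n⁻¹ ∈ U)
    (hRZ : R ≤ Z) (hRn : ∀ n ∈ normalizer ((P : Subgroup G) : Set G), ∀ x ∈ R, n * x * n⁻¹ ∈ R)
    (hdisj : ∀ x ∈ U, x ∈ R → x = 1) (hU : ¬ U ≤ center G) : R = ⊥ := by
  by_contra hR
  have hUcl : Cfsg.IsStronglyClosed U (P : Subgroup G) := by
    refine ⟨hUP, fun x hx g hg => ?_⟩
    obtain ⟨n, hn, e⟩ := S.conj_mod hq hc (hUP hx) hg
    rcases e with e | e <;> rw [e]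
    · exact hUn n hn x hx
    · exact mul_mem (hUn n hn x hx) hcU
  have hRcl : Cfsg.IsStronglyClosed R (P : Subgroup G) := by
    refine ⟨hRZ.trans S.le, fun x hx g hg => ?_⟩
    obtain ⟨n, hn, e⟩ := S.conj_mod hq hc (S.le (hRZ hx)) hg
    have hyZ : g * x * g⁻¹ ∈ Z := by
      rcases e with e | e <;> rw [e]
      · exact S.conj_mem_Z hn (hRZ hx)
      · exact mul_mem (S.conj_mem_Z hn (hRZ hx)) S.c_mem
    obtain ⟨m, hm, e'⟩ := S.burnside (hRZ hx) hyZ rfl
    rw [← e']
    exact hRn m hm x hx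
  obtain ⟨r, hr, hr1⟩ : ∃ r ∈ R, r ≠ 1 := by
    by_contra h
    push Not at h
    exact hR ((eq_bot_iff_forall R).2 h)
  refine pair_false hq S.orderOf_c ⟨P, U, R,
    fun x hx y hy => S.central y (hRZ hy) x (hUP hx), by
      rw [eq_bot_iff]; exact fun x hx => mem_bot.2 (hdisj x hx.1 hx.2), hUcl, hRcl⟩ hU fun h => ?_
  rcases S.center_cases hq (h hr) (S.le (hRZ hr)) with e | e
  · exact hr1 e
  · exact S.c_ne (hdisj c hcU (e ▸ hr))

/-- An odd complement to `P` in its normalizer. -/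
theorem exists_odd_complement (P : Sylow 2 G) :
    ∃ W : Subgroup G, W ≤ normalizer ((P : Subgroup G) : Set G) ∧ ¬ 2 ∣ Nat.card W ∧
      ∀ n ∈ normalizer ((P : Subgroup G) : Set G), ∃ p ∈ (P : Subgroup G), ∃ w ∈ W, n = p * w := by
  set N := normalizer ((P : Subgroup G) : Set G)
  have hle : (P : Subgroup G) ≤ N := le_normalizer
  let PN : Sylow 2 ↥N := P.subtype hle
  haveI : (PN : Subgroup ↥N).Normal := (normal_subgroupOf_iff_le_normalizer hle).2 le_rfl
  have hcop : Nat.Coprime (Nat.card (PN : Subgroup ↥N)) (PN : Subgroup ↥N).index := PN.card_coprime_index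
  obtain ⟨K, hK⟩ := exists_right_complement'_of_coprime hcop
  refine ⟨K.map N.subtype, map_subtype_le K, ?_, fun n hn => ?_⟩
  · rw [card_subtype, ← hK.symm.index_eq_card]
    exact PN.not_dvd_index
  · obtain ⟨⟨p, w⟩, e⟩ := hK.2 ⟨n, hn⟩
    exact ⟨p.1.1, p.2, w.1.1, ⟨w.1, w.2, rfl⟩, congrArg Subtype.val e.symm⟩

end CfsgLib.GWCons.IndexFour
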