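/-
A finite abelian 2-group with a fixed-point-free automorphism of order three and 2-rank at most two
is homocyclic of rank two.
-/
import Mathlib

set_option autoImplicit false
set_option linter.style.haveILetI false

open Subgroup

namespace CfsgLib.GWCons.IndexFour

variable {M : Type*} [CommGroup M]

/-- The orbit four-group `{1, e, f e, e (f e)}` of an element of order two. -/
def InFour (f : M →* M) (e d : M) : Prop := d = 1 ∨ d = e ∨ d = f e ∨ d = e * f e

theorem card_powKer_le [Finite M] (f : M →* M)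
    (h4 : ∀ e d : M, e * e = 1 → d * d = 1 → e ≠ 1 → InFour f e d) :
    ∀ i : ℕ, Nat.card (powMonoidHom (2 ^ i) : M →* M).ker ≤ 4 ^ i := by
  have hone : Nat.card (powMonoidHom 2 : M →* M).ker ≤ 4 := by
    classical
    by_cases h : ∃ e : M, e * e = 1 ∧ e ≠ 1
    · obtain ⟨e, he, he1⟩ := h
      have hmem : ∀ d : (powMonoidHom 2 : M →* M).ker, (d : M) * d = 1 := fun d => by
        have := d.2
        rwa [MonoidHom.mem_ker, powMonoidHom_apply, pow_two] at this
      have key : ∀ d : (powMonoidHom 2 : M →* M).ker, (d : M) ∈ ({1, e, f e, e * f e} : Finset M) :=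
        fun d => by
          simp only [Finset.mem_insert, Finset.mem_singleton]
          exact h4 e d he (hmem d) he1
      let φ : (powMonoidHom 2 : M →* M).ker → ↥({1, e, f e, e * f e} : Finset M) := fun d => ⟨d, key d⟩
      have hinj : Function.Injective φ := fun a b hab => Subtype.ext (Subtype.mk.inj hab)
      refine (Nat.card_le_card_of_injective φ hinj).trans ?_
      rw [Nat.card_eq_fintype_card, Fintype.card_coe]
      exact Finset.card_le_four
    · have : ∀ d : (powMonoidHom 2 : M →* M).ker, d = 1 := fun d => by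
        by_contra hd
        have hd2 := d.2
        rw [MonoidHom.mem_ker, powMonoidHom_apply, pow_two] at hd2
        exact h ⟨d, hd2, fun e => hd (Subtype.ext e)⟩
      haveI : Subsingleton (powMonoidHom 2 : M →* M).ker := ⟨fun a b => by rw [this a, this b]⟩
      rw [Nat.card_unique]
      norm_num
  intro i
  induction i with
  | zero =>
    have : (powMonoidHom (2 ^ 0) : M →* M).ker = ⊥ := by
      ext d; simp
    rw [this]; simp
  | succ i ih =>
    set K := (powMonoidHom (2 ^ (i + 1)) : M →* M).ker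
    set g : K →* M := (powMonoidHom 2).comp K.subtype
    have hr : g.range ≤ (powMonoidHom (2 ^ i) : M →* M).ker := by
      rintro _ ⟨d, rfl⟩
      have hd : (d : M) ^ 2 ^ (i + 1) = 1 := d.2
      show ((d : M) ^ 2) ^ 2 ^ i = 1
      rw [← pow_mul, ← pow_succ']; exact hd
    have hk : Nat.card g.ker ≤ 4 := by
      refine le_trans ?_ hone
      refine Nat.card_le_card_of_injective (fun d => ⟨((d : K) : M), d.2⟩) fun a b hab => ?_
      exact Subtype.ext (Subtype.ext (Subtype.mk.inj hab))
    have hsplit : Nat.card K = Nat.card g.ker * Nat.card g.range := by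
      rw [← index_ker, card_mul_index]
    calc Nat.card K = Nat.card g.ker * Nat.card g.range := hsplit
      _ ≤ 4 * 4 ^ i := Nat.mul_le_mul hk ((card_le_of_le hr).trans ih)
      _ = 4 ^ (i + 1) := by ring

/-- The structure of such a group. -/
theorem homocyclic_of_fpf [Finite M] (hM : IsPGroup 2 M) (hne : Nontrivial M) (f : M →* M)
    (hinj : Function.Injective f) (hfpf : ∀ d : M, f d = d → d = 1)
    (h4 : ∀ e d : M, e * e = 1 → d * d = 1 → e ≠ 1 → InFour f e d) :
    (Nat.card M = 4 ∧ ∀ d : M, d * d = 1) ∨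
      ∃ n : ℕ, 2 ≤ n ∧ Nonempty (M ≃* Multiplicative (ZMod (2 ^ n) × ZMod (2 ^ n))) := by
  haveI : Fact (Nat.Prime 2) := ⟨Nat.prime_two⟩
  obtain ⟨x, hx⟩ := Finite.exists_max (fun d : M => orderOf d)
  obtain ⟨n, hn⟩ := IsPGroup.iff_orderOf.1 hM x
  have hall : ∀ d : M, d ^ 2 ^ n = 1 := fun d => by
    obtain ⟨m, hm⟩ := IsPGroup.iff_orderOf.1 hM d
    refine orderOf_dvd_iff_pow_eq_one.1 (hm ▸ pow_dvd_pow 2 ?_)
    have := hx d
    rw [hm, hn] at this
    exact (Nat.pow_le_pow_iff_right one_lt_two).1 this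
  have hn1 : 1 ≤ n := by
    by_contra h
    obtain rfl : n = 0 := by omega
    obtain ⟨d, hd⟩ := exists_ne (1 : M)
    exact hd (by simpa using hall d)
  set e := x ^ 2 ^ (n - 1) with he
  have hee : e * e = 1 := by
    rw [he, ← pow_add, ← two_mul, ← pow_succ', show n - 1 + 1 = n by omega, hall]
  have he1 : e ≠ 1 := by
    intro h
    have h' := orderOf_dvd_of_pow_eq_one h
    rw [hn, Nat.pow_dvd_pow_iff_le_right one_lt_two] at h'
    omega
  -- the involution of a cyclic group of order `2 ^ n`
  have huniq : ∀ y : M, orderOf y = 2 ^ n → ∀ s ∈ zpowers y, s * s = 1 → s ≠ 1 →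
      s = y ^ 2 ^ (n - 1) := by
    intro y hy s hs hs2 hs1
    obtain ⟨k, rfl⟩ := (isOfFinOrder_of_finite y).mem_powers_iff_mem_zpowers.2 hs
    simp only at hs2 hs1 ⊢
    have h1 : 2 ^ n ∣ 2 * k := by
      rw [← hy, orderOf_dvd_iff_pow_eq_one, two_mul, pow_add]; exact hs2
    have h2 : ¬ 2 ^ n ∣ k := fun h => hs1 (orderOf_dvd_iff_pow_eq_one.1 (hy ▸ h))
    rw [show n = n - 1 + 1 by omega, pow_succ'] at h1
    obtain ⟨j, rfl⟩ := Nat.dvd_of_mul_dvd_mul_left two_pos h1
    obtain ⟨i, rfl⟩ : Odd j := Nat.not_even_iff_odd.1 fun ⟨i, hi⟩ => h2 ⟨i, by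
      conv_rhs => rw [show n = n - 1 + 1 by omega, pow_succ]
      rw [hi]; ring⟩
    have h3 : y ^ (2 ^ (n - 1) * 2) = 1 := by
      rw [← pow_succ, show n - 1 + 1 = n by omega, ← hy, pow_orderOf_eq_one]
    rw [show 2 ^ (n - 1) * (2 * i + 1) = 2 ^ (n - 1) * 2 * i + 2 ^ (n - 1) by ring, pow_add, pow_mul,
      h3, one_pow, one_mul]
  have hfx : orderOf (f x) = 2 ^ n := by rw [orderOf_injective f hinj, hn]
  have hdisj : Disjoint (zpowers x) (zpowers (f x)) := by
    rw [disjoint_iff, eq_bot_iff]
    intro s hs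
    rw [mem_bot]
    by_contra hs1
    obtain ⟨m, hm⟩ := IsPGroup.iff_orderOf.1 hM s
    have hm1 : 1 ≤ m := by
      by_contra h
      obtain rfl : m = 0 := by omega
      exact hs1 (orderOf_eq_one_iff.1 hm)
    set u := s ^ 2 ^ (m - 1) with hu
    have hu2 : u * u = 1 := by
      rw [hu, ← pow_add, ← two_mul, ← pow_succ', show m - 1 + 1 = m by omega, ← hm, pow_orderOf_eq_one]
    have hu1 : u ≠ 1 := by
      intro h
      have h' := orderOf_dvd_of_pow_eq_one h
      rw [hm, Nat.pow_dvd_pow_iff_le_right one_lt_two] at h'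
      omega
    have e1 := huniq x hn u (pow_mem hs.1 _) hu2 hu1
    have e2 := huniq (f x) hfx u (pow_mem hs.2 _) hu2 hu1
    rw [← map_pow] at e2
    exact he1 (hfpf e (e2.symm.trans e1))
  have hcard : Nat.card M ≤ 4 ^ n := by
    have h := card_powKer_le f h4 n
    rwa [show (powMonoidHom (2 ^ n) : M →* M).ker = ⊤ from eq_top_iff.2 fun d _ => hall d,
      card_top] at h
  rcases eq_or_lt_of_le hn1 with rfl | hn2
  · have hsq : ∀ d : M, d * d = 1 := fun d => by rw [← pow_two]; exact hall d
    refine Or.inl ⟨le_antisymm (by simpa using hcard) ?_, hsq⟩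
    have hxe : e = x := by simp [he]
    have hfe : f e ≠ e := fun h => he1 (hfpf e h)
    have hfe1 : f e ≠ 1 := fun h => he1 (hinj (h.trans (map_one f).symm))
    classical
    haveI := Fintype.ofFinite M
    rw [Nat.card_eq_fintype_card]
    have h3 : e * f e ≠ 1 := fun h => hfe (by
      rw [mul_eq_one_iff_inv_eq] at h
      rw [← h, inv_eq_of_mul_eq_one_right hee])
    refine le_trans ?_ (Finset.card_le_univ ({1, e, f e, e * f e} : Finset M))
    rw [Finset.card_insert_of_notMem, Finset.card_insert_of_notMem, Finset.card_insert_of_notMem,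
      Finset.card_singleton] <;> simp only [Finset.mem_insert, Finset.mem_singleton, not_or]
    exacts [fun h => he1 (mul_eq_right.1 h.symm),
      ⟨hfe.symm, fun h => hfe1 (left_eq_mul.1 h)⟩, ⟨he1.symm, hfe1.symm, h3.symm⟩]
  · refine Or.inr ⟨n, hn2, ?_⟩
    let φ : zpowers x × zpowers (f x) →* M := (zpowers x).subtype.coprod (zpowers (f x)).subtype
    have hφ : Function.Injective φ := by
      intro a b hab
      refine Subgroup.mul_injective_of_disjoint hdisj ?_
      exact hab
    have hc1 : Nat.card (zpowers x) = 2 ^ n := by rw [Nat.card_zpowers, hn]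
    have hc2 : Nat.card (zpowers (f x)) = 2 ^ n := by rw [Nat.card_zpowers, hfx]
    have hbij : Function.Bijective φ := by
      refine (Nat.bijective_iff_injective_and_card φ).2 ⟨hφ, le_antisymm
        (Nat.card_le_card_of_injective φ hφ) (hcard.trans (le_of_eq ?_))⟩
      rw [Nat.card_prod, hc1, hc2, ← mul_pow]; norm_num
    have hz : Nat.card (Multiplicative (ZMod (2 ^ n))) = 2 ^ n := by
      rw [Nat.card_congr Multiplicative.toAdd, Nat.card_zmod]
    exact ⟨(MulEquiv.ofBijective φ hbij).symm.trans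
      (((mulEquivOfCyclicCardEq (hc1.trans hz.symm)).prodCongr
        (mulEquivOfCyclicCardEq (hc2.trans hz.symm))).trans (MulEquiv.prodMultiplicative _ _).symm)⟩

end CfsgLib.GWCons.IndexFour
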