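/-
A quasisimple group containing the commutator involution of `P` in its centre: the image of `P` in
the central quotient is a four-group.
-/
import Cfsg.Agent.Lib.GWCons.IndexFour.Controls
import Cfsg.Agent.Lib.GWCons.IndexFour.Homocyclic
import Cfsg.Agent.Lib.Coprime.Commutator
import Cfsg.Agent.Lib.RankTwoTypes.Homocyclic

set_option autoImplicit false
set_option linter.style.haveILetI false
set_option linter.unusedSectionVars false

open Subgroup
open scoped commutatorElement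

namespace CfsgLib.GWCons.IndexFour

local instance : Fact (Nat.Prime 2) := ⟨Nat.prime_two⟩

universe u

variable {G : Type u} [Group G] [Finite G] {P : Sylow 2 G} {Z : Subgroup G} {c : G}

/-- `h` lies in the class of `g` modulo the centre of `P`. -/
def SameClass (Z : Subgroup G) (g h : G) : Prop := g⁻¹ * h ∈ Z

theorem SameClass.symm {g h : G} (e : SameClass Z g h) : SameClass Z h g := by
  show h⁻¹ * g ∈ Z
  simpa using inv_mem e

theorem SameClass.trans {g h k : G} (e : SameClass Z g h) (e' : SameClass Z h k) : SameClass Z g k := by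
  have := mul_mem e e'
  show g⁻¹ * k ∈ Z
  simpa [mul_assoc] using this

theorem Setup.sameClass_conj (S : Setup P Z c) {n g h : G}
    (hn : n ∈ normalizer ((P : Subgroup G) : Set G)) (e : SameClass Z g h) :
    SameClass Z (n * g * n⁻¹) (n * h * n⁻¹) := by
  show (n * g * n⁻¹)⁻¹ * (n * h * n⁻¹) ∈ Z
  have := S.conj_mem_Z hn e
  have e' : (n * g * n⁻¹)⁻¹ * (n * h * n⁻¹) = n * (g⁻¹ * h) * n⁻¹ := by group
  rwa [e']

theorem Setup.quaternion (S : Setup P Z c) (hq : Cfsg.IsQuasisimple G) (hc : c ∈ center G) :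
    Nat.card (P : Subgroup G) = 8 ∧
      Nonempty ((P : Subgroup G).map (QuotientGroup.mk' (center G)) ≃* DihedralGroup 2) := by
  have hcP := S.c_mem_P
  set NN := normalizer ((P : Subgroup G) : Set G) with hNN
  obtain ⟨W, hWN, hWodd, hdec⟩ := exists_odd_complement P
  have hcard : ∀ X : Subgroup G, X ≤ W → ∀ Y : Subgroup G, Y ≤ (P : Subgroup G) →
      (Nat.card X).Coprime (Nat.card Y) := by
    intro X hX Y hY
    obtain ⟨k, hk⟩ := IsPGroup.iff_card.1 (P.isPGroup'.to_le hY)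
    rw [hk]
    exact (Nat.Coprime.pow_left k ((Nat.prime_two.coprime_iff_not_dvd).2
      fun h => hWodd (h.trans (card_dvd_of_le hX)))).symm
  have hmemP : ∀ n ∈ NN, ∀ x ∈ (P : Subgroup G), n * x * n⁻¹ ∈ (P : Subgroup G) := fun n hn x hx =>
    (mem_normalizer_iff.1 hn x).1 hx
  -- elements of `W` acting trivially modulo `Z`
  let W₀ : Subgroup G :=
    { carrier := {a | a ∈ W ∧ ∀ x ∈ (P : Subgroup G), SameClass Z x (a * x * a⁻¹)}
      one_mem' := ⟨one_mem _, fun x _ => by simp [SameClass, one_mem]⟩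
      mul_mem' := fun {a b} ha hb => ⟨mul_mem ha.1 hb.1, fun x hx => by
        refine (hb.2 x hx).trans ?_
        have e : a * b * x * (a * b)⁻¹ = a * (b * x * b⁻¹) * a⁻¹ := by group
        rw [e]
        exact ha.2 _ (hmemP b (hWN hb.1) x hx)⟩
      inv_mem' := fun {a} ha => ⟨inv_mem ha.1, fun x hx => by
        have h1 := ha.2 _ (hmemP _ (inv_mem (hWN ha.1)) x hx)
        have e : a * (a⁻¹ * x * a⁻¹⁻¹) * a⁻¹ = x := by group
        rw [e] at h1
        exact h1.symm⟩ }
  have hW₀mem : ∀ a, a ∈ W₀ ↔ a ∈ W ∧ ∀ x ∈ (P : Subgroup G), SameClass Z x (a * x * a⁻¹) :=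
    fun _ => Iff.rfl
  have hW₀W : W₀ ≤ W := fun a ha => ha.1
  have hW₀N : W₀ ≤ NN := hW₀W.trans hWN
  -- the action of `P`
  have hpconj : ∀ p ∈ (P : Subgroup G), ∀ x ∈ (P : Subgroup G), SameClass Z x (p * x * p⁻¹) := by
    intro p hp x hx
    rcases S.conj_cases p hp x hx with e | e <;> rw [e]
    · simp [SameClass, one_mem]
    · simp [SameClass, S.c_mem]
  obtain ⟨x₀, hx₀⟩ : ∃ x, x ∈ (P : Subgroup G) ∧ x ∉ Z := by
    obtain ⟨x, hx, y, hy, hxy⟩ := S.exists_noncomm
    exact ⟨x, hx, fun h => hxy (S.central x h y hy).symm⟩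
  -- some element moves the classes
  obtain ⟨w, hwW, hw⟩ : ∃ w ∈ W, w ∉ W₀ := by
    by_contra h
    push Not at h
    refine hx₀.2 (S.le_of_diff hq hc S.c_mem (fun n hn x hx => ?_) hx₀.1)
    obtain ⟨p, hp, a, ha, rfl⟩ := hdec n hn
    have e : p * a * x * (p * a)⁻¹ = p * (a * x * a⁻¹) * p⁻¹ := by group
    rw [e]
    exact (((hW₀mem a).1 (h a ha)).2 x hx).trans (hpconj p hp _ (hmemP a (hWN ha) x hx))
  -- a single fixed class gives membership in `W₀`
  have hfixed : ∀ a ∈ W, ∀ x ∈ (P : Subgroup G), x ∉ Z → SameClass Z x (a * x * a⁻¹) → a ∈ W₀ := by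
    intro a ha x hx hxZ hax
    obtain ⟨y, hy, hxy⟩ := S.exists_partner hx hxZ
    have hxZc : ∀ {u v : G}, SameClass Z u v → SameClass Z (a * u * a⁻¹) (a * v * a⁻¹) :=
      fun e => S.sameClass_conj (hWN ha) e
    have hay := hmemP a (hWN ha) y hy
    -- generation by `x`, `y` and `Z`
    have hgen : ∀ b ∈ W, SameClass Z x (b * x * b⁻¹) → SameClass Z y (b * y * b⁻¹) → b ∈ W₀ := by
      intro b hb hbx hby
      refine (hW₀mem b).2 ⟨hb, ?_⟩
      have hmul : ∀ g ∈ (P : Subgroup G), ∀ h ∈ (P : Subgroup G), SameClass Z g (b * g * b⁻¹) →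
          SameClass Z h (b * h * b⁻¹) → SameClass Z (g * h) (b * (g * h) * b⁻¹) := by
        intro g _ h hh eg eh
        show (g * h)⁻¹ * (b * (g * h) * b⁻¹) ∈ Z
        have e : (g * h)⁻¹ * (b * (g * h) * b⁻¹) =
            h⁻¹ * (g⁻¹ * (b * g * b⁻¹)) * (b * h * b⁻¹) := by group
        rw [e, S.central _ eg h⁻¹ (inv_mem hh), mul_assoc]
        exact mul_mem eg eh
      have hZf : ∀ z ∈ Z, SameClass Z z (b * z * b⁻¹) := fun z hz =>
        mul_mem (inv_mem hz) (S.conj_mem_Z (hWN hb) hz)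
      intro g hg
      rcases S.cover x hx y hy hxy g hg with h | h | h | h
      · exact hZf g h
      · have := hmul _ (S.le h) x hx (hZf _ h) hbx
        simpa using this
      · have := hmul _ (S.le h) y hy (hZf _ h) hby
        simpa using this
      · have := hmul _ (S.le h) _ (mul_mem hx hy) (hZf _ h) (hmul x hx y hy hbx hby)
        simpa [mul_assoc] using this
    have sq : ∀ g ∈ (P : Subgroup G), ∀ z, z ∈ Z → SameClass Z g (g * z) := fun g _ z hz => by
      simpa [SameClass] using hz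
    rcases S.cover x hx y hy hxy _ hay with h | h | h | h
    · have := S.conj_mem_Z (inv_mem (hWN ha)) h
      rw [show a⁻¹ * (a * y * a⁻¹) * a⁻¹⁻¹ = y by group] at this
      exact absurd (S.central y this x hx) hxy
    · exfalso
      have e1 : SameClass Z x (a * y * a⁻¹) := by
        have := sq x hx _ h
        rwa [S.central _ h x hx, mul_assoc, inv_mul_cancel, mul_one] at this
      have e2 := S.sameClass_conj (inv_mem (hWN ha)) (e1.symm.trans hax)
      rw [show a⁻¹ * (a * y * a⁻¹) * a⁻¹⁻¹ = y by group,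
        show a⁻¹ * (a * x * a⁻¹) * a⁻¹⁻¹ = x by group] at e2
      have hyx : y = x * (y⁻¹ * x)⁻¹ := by group
      refine hxy ?_
      rw [hyx]
      calc x * (x * (y⁻¹ * x)⁻¹) = x * ((y⁻¹ * x)⁻¹ * x) := by
            rw [S.central _ (inv_mem e2) x hx]
        _ = x * (y⁻¹ * x)⁻¹ * x := by group
    · refine hgen a ha hax ?_
      have := sq y hy _ h
      rwa [S.central _ h y hy, mul_assoc, inv_mul_cancel, mul_one] at this
    · have hay' : SameClass Z (x * y) (a * y * a⁻¹) := by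
        have := sq (x * y) (mul_mem hx hy) _ h
        rwa [S.central _ h _ (mul_mem hx hy), mul_assoc, inv_mul_cancel, mul_one] at this
      have ha2 : a * a ∈ W₀ := by
        refine hgen _ (mul_mem ha ha) ?_ ?_
        · have e : a * a * x * (a * a)⁻¹ = a * (a * x * a⁻¹) * a⁻¹ := by group
          rw [e]
          exact hax.trans (hxZc hax)
        · have e : a * a * y * (a * a)⁻¹ = a * (a * y * a⁻¹) * a⁻¹ := by group
          rw [e]
          refine SameClass.trans ?_ (hxZc hay')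
          show y⁻¹ * (a * (x * y) * a⁻¹) ∈ Z
          have e' : y⁻¹ * (a * (x * y) * a⁻¹) = y⁻¹ * (x * (x⁻¹ * (a * x * a⁻¹))) *
              ((x * y) * ((x * y)⁻¹ * (a * y * a⁻¹))) := by group
          rw [e']
          have h1 : y⁻¹ * (x * (x⁻¹ * (a * x * a⁻¹))) =
              x⁻¹ * (a * x * a⁻¹) * (y⁻¹ * x) := by
            rw [S.central _ hax x hx, ← mul_assoc, S.central _ hax y⁻¹ (inv_mem hy)]
            group
          rw [h1]
          have h2 : (y⁻¹ * x) * (x * y) = x * x := by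
            rw [show (y⁻¹ * x) * (x * y) = y⁻¹ * (x * x) * y by group,
              S.central _ (S.sq_mem hx) y⁻¹ (inv_mem hy), mul_assoc, inv_mul_cancel, mul_one]
          have h3 : x⁻¹ * (a * x * a⁻¹) * (y⁻¹ * x) * (x * y * ((x * y)⁻¹ * (a * y * a⁻¹))) =
              x⁻¹ * (a * x * a⁻¹) * ((y⁻¹ * x) * (x * y)) * ((x * y)⁻¹ * (a * y * a⁻¹)) := by group
          rw [h3, h2]
          exact mul_mem (mul_mem hax (S.sq_mem hx)) hay'
      -- `a` is a power of its square
      obtain ⟨j, hj⟩ : Odd (orderOf a) := Nat.not_even_iff_odd.1 fun he =>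
        hWodd ((even_iff_two_dvd.1 he).trans (Subgroup.orderOf_dvd_natCard W ha))
      have : (a * a) ^ (j + 1) = a := by
        rw [← pow_two, ← pow_mul, show 2 * (j + 1) = orderOf a + 1 by omega, pow_add,
          pow_orderOf_eq_one, one_mul, pow_one]
      rw [← this]
      exact pow_mem ha2 _
  -- the three classes
  obtain ⟨hx₀P, hx₀Z⟩ := hx₀
  set y₀ := w * x₀ * w⁻¹ with hy₀
  have hy₀P : y₀ ∈ (P : Subgroup G) := hmemP w (hWN hwW) x₀ hx₀P
  have hw2 : w * w ∉ W₀ := fun h => hw (by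
    obtain ⟨j, hj⟩ : Odd (orderOf w) := Nat.not_even_iff_odd.1 fun he =>
      hWodd ((even_iff_two_dvd.1 he).trans (Subgroup.orderOf_dvd_natCard W hwW))
    have : (w * w) ^ (j + 1) = w := by
      rw [← pow_two, ← pow_mul, show 2 * (j + 1) = orderOf w + 1 by omega, pow_add,
        pow_orderOf_eq_one, one_mul, pow_one]
    rw [← this]
    exact pow_mem h _)
  have hy₀Z : y₀ ∉ Z := fun h => hx₀Z (by
    have := S.conj_mem_Z (inv_mem (hWN hwW)) h
    rwa [hy₀, show w⁻¹ * (w * x₀ * w⁻¹) * w⁻¹⁻¹ = x₀ by group] at this)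
  have hxy₀ : x₀ * y₀ ≠ y₀ * x₀ := fun e => by
    rcases S.comm_cases hx₀P hx₀Z hy₀P e.symm with h | h
    · exact hy₀Z h
    · refine hw (hfixed w hwW x₀ hx₀P hx₀Z ?_)
      show x₀⁻¹ * y₀ ∈ Z
      have e1 := S.central _ h x₀⁻¹ (inv_mem hx₀P)
      have : x₀⁻¹ * y₀ = x₀⁻¹ * (y₀ * x₀⁻¹) * x₀ := by group
      rw [this, e1, mul_assoc, inv_mul_cancel, mul_one]
      exact h
  set z₀ := w * y₀ * w⁻¹ with hz₀
  have hz₀P : z₀ ∈ (P : Subgroup G) := hmemP w (hWN hwW) y₀ hy₀P
  have hclass : ∀ g ∈ (P : Subgroup G), g ∈ Z ∨ SameClass Z x₀ g ∨ SameClass Z y₀ g ∨ SameClass Z (x₀ * y₀) g := by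
    intro g hg
    have sq : ∀ u ∈ (P : Subgroup G), g * u⁻¹ ∈ Z → SameClass Z u g := fun u hu hz => by
      show u⁻¹ * g ∈ Z
      have : u⁻¹ * g = u⁻¹ * (g * u⁻¹) * u := by group
      rw [this, S.central _ hz u⁻¹ (inv_mem hu), mul_assoc, inv_mul_cancel, mul_one]
      exact hz
    rcases S.cover x₀ hx₀P y₀ hy₀P hxy₀ g hg with h | h | h | h
    · exact Or.inl h
    · exact Or.inr (Or.inl (sq _ hx₀P h))
    · exact Or.inr (Or.inr (Or.inl (sq _ hy₀P h)))
    · exact Or.inr (Or.inr (Or.inr (sq _ (mul_mem hx₀P hy₀P) h)))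
  have hz₀c : SameClass Z (x₀ * y₀) z₀ := by
    rcases hclass z₀ hz₀P with h | h | h | h
    · refine absurd ?_ hy₀Z
      have := S.conj_mem_Z (inv_mem (hWN hwW)) h
      rwa [hz₀, show w⁻¹ * (w * y₀ * w⁻¹) * w⁻¹⁻¹ = y₀ by group] at this
    · refine absurd (hfixed (w * w) (mul_mem hwW hwW) x₀ hx₀P hx₀Z ?_) hw2
      rwa [show w * w * x₀ * (w * w)⁻¹ = z₀ by rw [hz₀, hy₀]; group]
    · exact absurd (hfixed w hwW y₀ hy₀P hy₀Z h) hw
    · exact h
  have htri : ∀ a ∈ W, a ∈ W₀ ∨ w⁻¹ * a ∈ W₀ ∨ (w * w)⁻¹ * a ∈ W₀ := by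
    intro a ha
    have hax := hmemP a (hWN ha) x₀ hx₀P
    have back : ∀ b ∈ W, ∀ g, SameClass Z (b * g * b⁻¹) (a * x₀ * a⁻¹) →
        SameClass Z g (b⁻¹ * a * x₀ * (b⁻¹ * a)⁻¹) := fun b hb g e => by
      have := S.sameClass_conj (inv_mem (hWN hb)) e
      rwa [show b⁻¹ * (b * g * b⁻¹) * b⁻¹⁻¹ = g by group,
        show b⁻¹ * (a * x₀ * a⁻¹) * b⁻¹⁻¹ = b⁻¹ * a * x₀ * (b⁻¹ * a)⁻¹ by group] at this
    rcases hclass _ hax with h | h | h | h
    · refine absurd ?_ hx₀Z
      have := S.conj_mem_Z (inv_mem (hWN ha)) h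
      rwa [show a⁻¹ * (a * x₀ * a⁻¹) * a⁻¹⁻¹ = x₀ by group] at this
    · exact Or.inl (hfixed a ha x₀ hx₀P hx₀Z h)
    · exact Or.inr (Or.inl (hfixed _ (mul_mem (inv_mem hwW) ha) x₀ hx₀P hx₀Z (back w hwW x₀ h)))
    · refine Or.inr (Or.inr (hfixed _ (mul_mem (inv_mem (mul_mem hwW hwW)) ha) x₀ hx₀P hx₀Z
        (back (w * w) (mul_mem hwW hwW) x₀ ?_)))
      refine SameClass.trans ?_ h
      rw [show w * w * x₀ * (w * w)⁻¹ = z₀ by rw [hz₀, hy₀]; group]
      exact hz₀c.symm
  have hw3 : w * w * w ∈ W₀ := by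
    rcases htri _ (mul_mem (mul_mem hwW hwW) hwW) with h | h | h
    · exact h
    · rw [mul_assoc, inv_mul_cancel_left] at h; exact absurd h hw2
    · rw [inv_mul_cancel_left] at h; exact absurd h hw
  -- `W₀` centralises `P`
  have hW₀cen : ∀ a ∈ W₀, ∀ x ∈ (P : Subgroup G), a * x * a⁻¹ = x := by
    set R₀ := ⁅(P : Subgroup G), W₀⁆ with hR₀
    set U₀ := (P : Subgroup G) ⊓ centralizer (W₀ : Set G) with hU₀
    have hW₀P : W₀ ≤ normalizer ((P : Subgroup G) : Set G) := hW₀N
    have hsolv : Group.IsSolvable W₀ ∨ Group.IsSolvable (P : Subgroup G) := by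
      haveI := P.isPGroup'.isNilpotent
      exact Or.inr inferInstance
    have hcop := hcard W₀ hW₀W (P : Subgroup G) le_rfl
    have hR₀Z : R₀ ≤ Z := by
      rw [hR₀, commutator_le]
      intro x hx a ha
      have h1 := ((hW₀mem a).1 ha).2 x⁻¹ (inv_mem hx)
      have e : ⁅x, a⁆ = x⁻¹⁻¹ * (a * x⁻¹ * a⁻¹) := by rw [commutatorElement_def]; group
      rw [e]; exact h1
    have hRU : ∀ r ∈ R₀, r ∈ centralizer (W₀ : Set G) → r = 1 := by
      intro r hr hrc
      haveI : IsMulCommutative Z := ⟨⟨fun u v =>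
        Subtype.ext (S.central v v.2 u (S.le u.2))⟩⟩
      have h1 := CfsgLib.Coprime.commutator_inf_centralizer_eq_bot W₀ Z
        (fun a ha => CfsgLib.Transfer.mem_normalizer_of_map_conj_eq (eq_of_le_of_card_ge (by
          rintro _ ⟨z, hz, rfl⟩
          exact S.conj_mem_Z (hW₀N ha) hz)
          (by rw [card_map_of_injective (MulAut.conj a).injective]))) (hcard W₀ hW₀W Z S.le)
      have h2 : r ∈ ⁅Z, W₀⁆ := by
        have h3 : r ∈ ⁅R₀, W₀⁆ := by
          rw [hR₀, CfsgLib.Coprime.commutator_commutator_eq W₀ _ hW₀P hcop hsolv]; exact hr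
        exact commutator_mono hR₀Z le_rfl h3
      exact mem_bot.1 (h1 ▸ ⟨h2, hrc⟩)
    have hcU : c ∈ U₀ := ⟨hcP, mem_centralizer_iff.2 fun a _ => mem_center_iff.1 hc a⟩
    have hW₀n : ∀ b ∈ W, ∀ a ∈ W₀, b * a * b⁻¹ ∈ W₀ := by
      intro b hb a ha
      refine (hW₀mem _).2 ⟨mul_mem (mul_mem hb (hW₀W ha)) (inv_mem hb), fun x hx => ?_⟩
      have hy := hmemP _ (inv_mem (hWN hb)) x hx
      have := S.sameClass_conj (hWN hb) (((hW₀mem a).1 ha).2 _ hy)
      rwa [show b * (b⁻¹ * x * b⁻¹⁻¹) * b⁻¹ = x by group,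
        show b * (a * (b⁻¹ * x * b⁻¹⁻¹) * a⁻¹) * b⁻¹ = b * a * b⁻¹ * x * (b * a * b⁻¹)⁻¹ by group] at this
    have hUn : ∀ n ∈ NN, ∀ x ∈ U₀, n * x * n⁻¹ ∈ U₀ := by
      intro n hn x hx
      obtain ⟨p, hp, b, hb, rfl⟩ := hdec n hn
      have h1 : b * x * b⁻¹ ∈ U₀ := by
        refine ⟨hmemP b (hWN hb) x hx.1, mem_centralizer_iff.2 fun a ha => ?_⟩
        have h2 := mem_centralizer_iff.1 hx.2 _ (hW₀n b⁻¹ (inv_mem hb) a ha)
        calc a * (b * x * b⁻¹) = b * ((b⁻¹ * a * b⁻¹⁻¹) * x) * b⁻¹ := by group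
          _ = b * (x * (b⁻¹ * a * b⁻¹⁻¹)) * b⁻¹ := by rw [h2]
          _ = b * x * b⁻¹ * a := by group
      have e : p * b * x * (p * b)⁻¹ = p * (b * x * b⁻¹) * p⁻¹ := by group
      rw [e]
      rcases S.conj_cases p hp _ h1.1 with e' | e' <;> rw [e']
      · exact h1
      · exact mul_mem h1 hcU
    have hRn : ∀ n ∈ NN, ∀ x ∈ R₀, n * x * n⁻¹ ∈ R₀ := by
      intro n hn x hx
      obtain ⟨p, hp, b, hb, rfl⟩ := hdec n hn
      have h1 : b * x * b⁻¹ ∈ R₀ := by
        have hle : R₀ ≤ R₀.comap (MulAut.conj b).toMonoidHom := by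
          conv_lhs => rw [hR₀]
          rw [commutator_le]
          intro u hu a ha
          rw [mem_comap, map_commutatorElement]
          exact commutator_mem_commutator (hmemP b (hWN hb) u hu) (hW₀n b hb a ha)
        exact hle hx
      have e : p * b * x * (p * b)⁻¹ = b * x * b⁻¹ := by
        rw [show p * b * x * (p * b)⁻¹ = p * (b * x * b⁻¹) * p⁻¹ by group,
          S.central _ (hR₀Z h1) p hp, mul_inv_cancel_right]
      rw [e]; exact h1
    have hsup : R₀ ⊔ U₀ = (P : Subgroup G) :=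
      CfsgLib.Coprime.commutator_sup_centralizer W₀ _ hW₀P hcop hsolv
    have hbot := S.invariant_pair_false hq hc U₀ R₀ inf_le_left hcU hUn hR₀Z hRn
      (fun x hxU hxR => hRU x hxR hxU.2) (fun hU => by
        have hP : (P : Subgroup G) ≤ Z := hsup ▸ sup_le hR₀Z fun x hx =>
          S.mem_of_comm x hx.1 fun h _ => mem_center_iff.1 (hU hx) h
        exact hx₀Z (hP hx₀P))
    intro a ha x hx
    rw [hR₀, commutator_eq_bot_iff_le_centralizer] at hbot
    rw [mem_centralizer_iff.1 (hbot hx) a ha, mul_inv_cancel_right]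
  -- how `N(P)` acts
  have hact : ∀ n ∈ NN, ∃ i ∈ ({1, w, w * w} : Set G), ∀ x ∈ (P : Subgroup G),
      n * x * n⁻¹ = i * x * i⁻¹ ∨ n * x * n⁻¹ = i * x * i⁻¹ * c := by
    intro n hn
    obtain ⟨p, hp, a, ha, rfl⟩ := hdec n hn
    obtain ⟨i, hi, hiW, hia⟩ : ∃ i ∈ ({1, w, w * w} : Set G), i ∈ W ∧ i⁻¹ * a ∈ W₀ := by
      rcases htri a ha with h | h | h
      · exact ⟨1, Or.inl rfl, one_mem _, by simpa using h⟩
      · exact ⟨w, Or.inr (Or.inl rfl), hwW, h⟩
      · exact ⟨w * w, Or.inr (Or.inr rfl), mul_mem hwW hwW, h⟩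
    refine ⟨i, hi, fun x hx => ?_⟩
    have e1 : a * x * a⁻¹ = i * x * i⁻¹ := by
      have := hW₀cen _ hia x hx
      calc a * x * a⁻¹ = i * (i⁻¹ * a * x * (i⁻¹ * a)⁻¹) * i⁻¹ := by group
        _ = i * x * i⁻¹ := by rw [this]
    have e : p * a * x * (p * a)⁻¹ = p * (a * x * a⁻¹) * p⁻¹ := by group
    rw [e, e1]
    exact S.conj_cases p hp _ (hmemP i (hWN hiW) x hx)
  have hwP : ∀ x ∈ (P : Subgroup G), w * x * w⁻¹ ∈ (P : Subgroup G) := hmemP w (hWN hwW)
  have hw3x : ∀ x ∈ (P : Subgroup G), w * (w * (w * x * w⁻¹) * w⁻¹) * w⁻¹ = x := fun x hx => by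
    have := hW₀cen _ hw3 x hx
    calc w * (w * (w * x * w⁻¹) * w⁻¹) * w⁻¹ = w * w * w * x * (w * w * w)⁻¹ := by group
      _ = x := this
  -- in the central quotient
  set π := QuotientGroup.mk' (center G) with hπ
  have hπc : π c = 1 := (QuotientGroup.eq_one_iff c).2 hc
  have hker : ∀ g ∈ (P : Subgroup G), π g = 1 → g = 1 ∨ g = c := fun g hg e =>
    S.center_cases hq ((QuotientGroup.eq_one_iff g).1 e) hg
  let M := (P : Subgroup G).map π
  have hcomm : ∀ a b : M, a * b = b * a := by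
    rintro ⟨_, p, hp, rfl⟩ ⟨_, q, hq', rfl⟩
    apply Subtype.ext
    show π p * π q = π q * π p
    refine mul_inv_eq_iff_eq_mul.1 ?_
    rw [← map_mul, ← map_inv, ← map_mul]
    rcases S.conj_cases p hp q hq' with e | e <;> rw [e]
    rw [map_mul, hπc, mul_one]
  letI : CommGroup M := { (inferInstance : Group M) with mul_comm := hcomm }
  have hMmem : ∀ d : M, π w * (d : G ⧸ center G) * (π w)⁻¹ ∈ M := by
    rintro ⟨_, p, hp, rfl⟩
    exact ⟨_, hwP p hp, by rw [map_mul, map_mul, map_inv]⟩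
  let f : M →* M := MonoidHom.mk' (fun d => ⟨π w * d * (π w)⁻¹, hMmem d⟩) fun a b => by
    apply Subtype.ext
    show π w * ((a : G ⧸ center G) * b) * (π w)⁻¹ = _
    simp only [Subgroup.coe_mul]
    group
  let lift : ∀ p, p ∈ (P : Subgroup G) → M := fun p hp => ⟨π p, p, hp, rfl⟩
  have hflift : ∀ p (hp : p ∈ (P : Subgroup G)), f (lift p hp) = lift (w * p * w⁻¹) (hwP p hp) := by
    intro p hp
    apply Subtype.ext
    show π w * π p * (π w)⁻¹ = π (w * p * w⁻¹)
    rw [map_mul, map_mul, map_inv]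
  have hMlift : ∀ d : M, ∃ p, ∃ hp : p ∈ (P : Subgroup G), d = lift p hp := by
    rintro ⟨_, p, hp, rfl⟩
    exact ⟨p, hp, rfl⟩
  have hfff : ∀ d : M, f (f (f d)) = d := fun d => by
    obtain ⟨p, hp, rfl⟩ := hMlift d
    rw [hflift p hp, hflift _ (hwP p hp), hflift _ (hwP _ (hwP p hp))]
    exact Subtype.ext (congrArg π (hw3x p hp))
  have hfinj : Function.Injective f := fun a b h => by rw [← hfff a, h, hfff]
  -- `d ↦ d⁻¹ f d` is onto
  have hsurj : ∀ d : M, ∃ e : M, d = e⁻¹ * f e := by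
    let F : Subgroup G :=
      { carrier := {g | ∃ hg : g ∈ (P : Subgroup G), ∃ e : M, lift g hg = e⁻¹ * f e}
        one_mem' := ⟨one_mem _, 1, Subtype.ext (by simp [lift])⟩
        mul_mem' := by
          rintro a b ⟨ha, e, he⟩ ⟨hb, e', he'⟩
          refine ⟨mul_mem ha hb, e * e', ?_⟩
          have : lift (a * b) (mul_mem ha hb) = lift a ha * lift b hb := Subtype.ext (map_mul π a b)
          rw [this, he, he', map_mul, mul_inv, mul_mul_mul_comm]
        inv_mem' := by
          rintro a ⟨ha, e, he⟩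
          refine ⟨inv_mem ha, e⁻¹, ?_⟩
          have : lift a⁻¹ (inv_mem ha) = (lift a ha)⁻¹ := Subtype.ext (map_inv π a)
          rw [this, he, map_inv, mul_inv, inv_inv] }
    have hPF : (P : Subgroup G) ≤ F := by
      refine S.le_of_diff hq hc ⟨hcP, 1, Subtype.ext (by simp [lift, hπc])⟩ fun n hn x hx => ?_
      obtain ⟨i, hi, hix⟩ := hact n hn
      have hnx := hmemP n hn x hx
      refine ⟨mul_mem (inv_mem hx) hnx, ?_⟩
      have hπn : π (n * x * n⁻¹) = π (i * x * i⁻¹) := by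
        rcases hix x hx with e | e <;> rw [e]
        rw [map_mul, hπc, mul_one]
      rcases hi with rfl | rfl | rfl
      · refine ⟨1, Subtype.ext ?_⟩
        show π (x⁻¹ * (n * x * n⁻¹)) = _
        rw [map_mul, hπn]; simp
      · refine ⟨lift x hx, Subtype.ext ?_⟩
        rw [hflift x hx]
        show π (x⁻¹ * (n * x * n⁻¹)) = (π x)⁻¹ * π (i * x * i⁻¹)
        rw [map_mul, hπn, map_inv]
      · refine ⟨lift x hx * f (lift x hx), ?_⟩
        have e1 : lift (x⁻¹ * (n * x * n⁻¹)) (mul_mem (inv_mem hx) hnx) =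
            (lift x hx)⁻¹ * f (f (lift x hx)) := by
          apply Subtype.ext
          show π (x⁻¹ * (n * x * n⁻¹)) = (π x)⁻¹ * (π w * (π w * π x * (π w)⁻¹) * (π w)⁻¹)
          rw [map_mul, hπn, map_inv]
          simp only [map_mul, map_inv, mul_inv_rev]
          group
        rw [e1, map_mul, mul_inv, mul_comm (f (lift x hx)) (f (f _)), mul_mul_mul_comm,
          inv_mul_cancel, mul_one]
    intro d
    obtain ⟨p, hp, rfl⟩ := hMlift d
    obtain ⟨_, e, he⟩ := hPF hp
    exact ⟨e, he⟩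
  have hfpf : ∀ d : M, f d = d → d = 1 := by
    intro d hd
    let δ : M → M := fun e => e⁻¹ * f e
    have hδ : Function.Surjective δ := fun e => by
      obtain ⟨e', he⟩ := hsurj e; exact ⟨e', he.symm⟩
    have hδi : Function.Injective δ := Finite.injective_iff_surjective.2 hδ
    exact hδi (by simp [δ, hd])
  have hffd : ∀ d : M, f (f d) = (d * f d)⁻¹ := by
    intro d
    have h1 : f (d * f d * f (f d)) = d * f d * f (f d) := by
      rw [map_mul, map_mul, hfff, mul_comm (f d * f (f d)) d, ← mul_assoc]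
    exact eq_inv_of_mul_eq_one_right (hfpf _ h1)
  -- four-groups of the orbits
  have four : ∀ e : M, e * e = 1 → ∃ T : Subgroup M, (∀ d, d ∈ T ↔ InFour f e d) ∧ ∀ d ∈ T, f d ∈ T := by
    intro e he
    have hfe : f e * f e = 1 := by rw [← map_mul, he, map_one]
    refine ⟨{ carrier := {d | InFour f e d}
              one_mem' := Or.inl rfl
              mul_mem' := ?_
              inv_mem' := ?_ }, fun d => Iff.rfl, ?_⟩
    · rintro a b (ha | ha | ha | ha) (hb | hb | hb | hb) <;> rw [ha, hb]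
      · exact Or.inl (mul_one _)
      · exact Or.inr (Or.inl (one_mul _))
      · exact Or.inr (Or.inr (Or.inl (one_mul _)))
      · exact Or.inr (Or.inr (Or.inr (one_mul _)))
      · exact Or.inr (Or.inl (mul_one _))
      · exact Or.inl he
      · exact Or.inr (Or.inr (Or.inr rfl))
      · exact Or.inr (Or.inr (Or.inl (by rw [← mul_assoc, he, one_mul])))
      · exact Or.inr (Or.inr (Or.inl (mul_one _)))
      · exact Or.inr (Or.inr (Or.inr (mul_comm _ _)))
      · exact Or.inl hfe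
      · exact Or.inr (Or.inl (by rw [mul_left_comm, hfe, mul_one]))
      · exact Or.inr (Or.inr (Or.inr (mul_one _)))
      · exact Or.inr (Or.inr (Or.inl (by rw [mul_comm e (f e), mul_assoc, he, mul_one])))
      · exact Or.inr (Or.inl (by rw [mul_assoc, hfe, mul_one]))
      · exact Or.inl (by rw [mul_mul_mul_comm, he, hfe, one_mul])
    · rintro a (ha | ha | ha | ha) <;> rw [ha]
      · exact Or.inl inv_one
      · exact Or.inr (Or.inl (inv_eq_of_mul_eq_one_right he))
      · exact Or.inr (Or.inr (Or.inl (inv_eq_of_mul_eq_one_right hfe)))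
      · exact Or.inr (Or.inr (Or.inr (by
          rw [mul_inv, inv_eq_of_mul_eq_one_right he, inv_eq_of_mul_eq_one_right hfe])))
    · have h2 : f (f e) = e * f e := by
        rw [hffd, mul_inv, inv_eq_of_mul_eq_one_right he, inv_eq_of_mul_eq_one_right hfe]
      rintro d (hd | hd | hd | hd) <;> rw [hd]
      · exact Or.inl (map_one f)
      · exact Or.inr (Or.inr (Or.inl rfl))
      · exact Or.inr (Or.inr (Or.inr h2))
      · exact Or.inr (Or.inl (by rw [map_mul, h2, mul_left_comm, hfe, mul_one]))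
  -- the central classes
  let Zb : Subgroup M := (Z.map π).comap M.subtype
  have hZb : ∀ d : M, d ∈ Zb → f d ∈ Zb := by
    rintro d ⟨z, hz, e⟩
    refine ⟨w * z * w⁻¹, S.conj_mem_Z (hWN hwW) hz, ?_⟩
    show π (w * z * w⁻¹) = π w * (d : G ⧸ center G) * (π w)⁻¹
    rw [map_mul, map_mul, map_inv, e]; rfl
  have hlp : ∀ p (hp : p ∈ (P : Subgroup G)), lift p hp ∈ Zb → p ∈ Z := by
    rintro p hp ⟨z, hz, e⟩
    have e' : π (z⁻¹ * p) = 1 := by
      rw [map_mul, map_inv, inv_mul_eq_one]; exact e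
    rcases hker _ (mul_mem (inv_mem (S.le hz)) hp) e' with h | h
    · rwa [← inv_mul_eq_one.1 h]
    · rw [eq_mul_of_inv_mul_eq h]; exact mul_mem hz S.c_mem
  -- two different orbits are impossible
  have hrank : ∀ e d : M, e * e = 1 → d * d = 1 → e ≠ 1 → InFour f e d := by
    intro e d he hd he1
    by_contra hne
    obtain ⟨T, hT, hTf⟩ := four e he
    obtain ⟨r, u, hrZ, hr2, hr1, hu2, hu⟩ : ∃ r u : M, r ∈ Zb ∧ r * r = 1 ∧ r ≠ 1 ∧ u * u = 1 ∧
        ¬ InFour f r u := by
      by_cases heZ : e ∈ Zb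
      · exact ⟨e, d, heZ, he, he1, hd, hne⟩
      obtain ⟨p, hp, rfl⟩ := hMlift e
      obtain ⟨q, hq', rfl⟩ := hMlift d
      have hpZ : p ∉ Z := fun h => heZ ⟨p, h, rfl⟩
      have hwp := hwP p hp
      have hpw : p * (w * p * w⁻¹) ≠ w * p * w⁻¹ * p := fun e' => by
        rcases S.comm_cases hp hpZ hwp e'.symm with h | h
        · refine hpZ ?_
          have := S.conj_mem_Z (inv_mem (hWN hwW)) h
          rwa [show w⁻¹ * (w * p * w⁻¹) * w⁻¹⁻¹ = p by group] at this
        · refine hw (hfixed w hwW p hp hpZ ?_)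
          show p⁻¹ * (w * p * w⁻¹) ∈ Z
          have : p⁻¹ * (w * p * w⁻¹) = p⁻¹ * (w * p * w⁻¹ * p⁻¹) * p := by group
          rw [this, S.central _ h p⁻¹ (inv_mem hp), mul_assoc, inv_mul_cancel, mul_one]
          exact h
      have key : ∃ s ∈ T, lift q hq' * s ∈ Zb := by
        rcases S.cover p hp _ hwp hpw q hq' with h | h | h | h
        · exact ⟨1, one_mem T, by rw [mul_one]; exact ⟨q, h, rfl⟩⟩
        · refine ⟨(lift p hp)⁻¹, inv_mem ((hT _).2 (Or.inr (Or.inl rfl))), _, h, ?_⟩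
          exact (map_mul π _ _).trans (congrArg _ (map_inv π _))
        · refine ⟨(f (lift p hp))⁻¹, inv_mem ((hT _).2 (Or.inr (Or.inr (Or.inl rfl)))), _, h, ?_⟩
          rw [hflift p hp]
          exact (map_mul π _ _).trans (congrArg _ (map_inv π _))
        · refine ⟨(lift p hp * f (lift p hp))⁻¹, inv_mem ((hT _).2 (Or.inr (Or.inr (Or.inr rfl)))), _, h, ?_⟩
          rw [hflift p hp]
          exact (map_mul π _ _).trans (congrArg _ ((map_inv π _).trans (congrArg _ (map_mul π _ _))))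
      obtain ⟨s, hsT, hsZ⟩ := key
      refine ⟨lift q hq' * s, lift p hp, hsZ, ?_, ?_, he, ?_⟩
      · have hs2 : s * s = 1 := by
          rcases (hT s).1 hsT with rfl | rfl | rfl | rfl
          · exact one_mul _
          · exact he
          · rw [← map_mul, he, map_one]
          · rw [mul_mul_mul_comm, ← map_mul, he, map_one, one_mul]
        rw [mul_mul_mul_comm, hd, hs2, one_mul]
      · intro h
        refine hne ((hT _).1 ?_)
        rw [eq_inv_of_mul_eq_one_left h]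
        exact inv_mem hsT
      · intro h
        refine heZ ?_
        rcases h with h | h | h | h
        · exact absurd h he1
        · rw [h]; exact hsZ
        · rw [h]; exact hZb _ hsZ
        · rw [h]; exact mul_mem hsZ (hZb _ hsZ)
    obtain ⟨Tr, hTr, hTrf⟩ := four r hr2
    obtain ⟨Tu, hTu, hTuf⟩ := four u hu2
    have hTrZ : Tr ≤ Zb := by
      intro v hv
      rcases (hTr v).1 hv with rfl | rfl | rfl | rfl
      exacts [one_mem _, hrZ, hZb _ hrZ, mul_mem hrZ (hZb _ hrZ)]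
    have hTT : ∀ v ∈ Tr, v ∈ Tu → v = 1 := by
      intro v hvr hvu
      by_contra hv1
      -- both are the four-group of `v`
      have h2 : ∀ {r' : M}, r' * r' = 1 → f (f r') = r' * f r' := fun {r'} h => by
        rw [hffd, mul_inv, inv_eq_of_mul_eq_one_right h,
          inv_eq_of_mul_eq_one_right (by rw [← map_mul, h, map_one] : f r' * f r' = 1)]
      have gen : ∀ {r' : M}, r' * r' = 1 → ∀ T' : Subgroup M, (∀ d, d ∈ T' ↔ InFour f r' d) →
          (∀ d ∈ T', f d ∈ T') → InFour f r' v → InFour f v r' := by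
        intro r' hr' T' _ _ hv
        rcases hv with e1 | e1 | e1 | e1
        · exact absurd e1 hv1
        · exact Or.inr (Or.inl e1.symm)
        · refine Or.inr (Or.inr (Or.inr ?_))
          rw [e1, h2 hr', mul_left_comm, ← map_mul, hr', map_one, mul_one]
        · refine Or.inr (Or.inr (Or.inl ?_))
          rw [e1, map_mul, h2 hr', mul_left_comm, ← map_mul, hr', map_one, mul_one]
      have hv2 : v * v = 1 := by
        rcases (hTr v).1 hvr with rfl | rfl | rfl | rfl
        · exact one_mul _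
        · exact hr2
        · rw [← map_mul, hr2, map_one]
        · rw [mul_mul_mul_comm, ← map_mul, hr2, map_one, one_mul]
      have hu' : InFour f v u := gen hu2 Tu hTu hTuf ((hTu v).1 hvu)
      refine hu ((hTr u).1 ?_)
      rcases hu' with e1 | e1 | e1 | e1 <;> rw [e1]
      exacts [one_mem _, hvr, hTrf v hvr, mul_mem hvr (hTrf v hvr)]
    let U : Subgroup G := (P : Subgroup G) ⊓ (Tu.map M.subtype).comap π
    have hconjT : ∀ (T' : Subgroup M), (∀ v ∈ T', f v ∈ T') → ∀ i ∈ ({1, w, w * w} : Set G),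
        ∀ x ∈ (P : Subgroup G), π x ∈ T'.map M.subtype → π (i * x * i⁻¹) ∈ T'.map M.subtype := by
      rintro T' hT' i hi x _ ⟨v, hv, hvx⟩
      rcases hi with rfl | rfl | rfl
      · exact ⟨v, hv, by simpa using hvx⟩
      · refine ⟨f v, hT' v hv, ?_⟩
        show π i * (v : G ⧸ center G) * (π i)⁻¹ = _
        rw [map_mul, map_mul, map_inv, ← hvx]; rfl
      · refine ⟨f (f v), hT' _ (hT' v hv), ?_⟩
        show π w * (π w * (v : G ⧸ center G) * (π w)⁻¹) * (π w)⁻¹ = _
        simp only [map_mul, map_inv, mul_inv_rev, ← hvx]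
        show _ = π w * π w * (v : G ⧸ center G) * ((π w)⁻¹ * (π w)⁻¹)
        group
    -- the central subgroup
    let H : Subgroup G := Z ⊓ (Tr.map M.subtype).comap π
    let R : Subgroup G :=
      { carrier := {g | ∃ h ∈ H, g = h⁻¹ * (w * h * w⁻¹)}
        one_mem' := ⟨1, one_mem _, by group⟩
        mul_mem' := by
          rintro a b ⟨h, hh, rfl⟩ ⟨k, hk, rfl⟩
          refine ⟨h * k, mul_mem hh hk, ?_⟩
          have hh' : h⁻¹ * (w * h * w⁻¹) ∈ Z :=
            mul_mem (inv_mem hh.1) (S.conj_mem_Z (hWN hwW) hh.1)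
          have e := S.central _ hh' k⁻¹ (inv_mem (S.le hk.1))
          calc h⁻¹ * (w * h * w⁻¹) * (k⁻¹ * (w * k * w⁻¹))
              = (h⁻¹ * (w * h * w⁻¹) * k⁻¹) * (w * k * w⁻¹) := by group
            _ = (h * k)⁻¹ * (w * (h * k) * w⁻¹) := by rw [← e]; group
        inv_mem' := by
          rintro a ⟨h, hh, rfl⟩
          refine ⟨h⁻¹, inv_mem hh, ?_⟩
          have hZ' := inv_mem (S.conj_mem_Z (hWN hwW) hh.1)
          have e := S.central _ hZ' h (S.le hh.1)
          calc (h⁻¹ * (w * h * w⁻¹))⁻¹ = (w * h * w⁻¹)⁻¹ * h := by group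
            _ = h⁻¹⁻¹ * (w * h⁻¹ * w⁻¹) := by rw [← e]; group }
    have hRZ : R ≤ Z := by
      rintro _ ⟨h, hh, rfl⟩
      exact mul_mem (inv_mem hh.1) (S.conj_mem_Z (hWN hwW) hh.1)
    have hwH : ∀ h ∈ H, w * h * w⁻¹ ∈ H := fun h hh =>
      ⟨S.conj_mem_Z (hWN hwW) hh.1, hconjT Tr hTrf w (Or.inr (Or.inl rfl)) h (S.le hh.1) hh.2⟩
    have hwR : ∀ x ∈ R, w * x * w⁻¹ ∈ R := by
      rintro _ ⟨h, hh, rfl⟩
      exact ⟨w * h * w⁻¹, hwH h hh, by group⟩
    have hRn : ∀ n ∈ NN, ∀ x ∈ R, n * x * n⁻¹ ∈ R := by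
      intro n hn x hx
      obtain ⟨p, hp, a, ha, rfl⟩ := hdec n hn
      have e0 : p * a * x * (p * a)⁻¹ = a * x * a⁻¹ := by
        rw [show p * a * x * (p * a)⁻¹ = p * (a * x * a⁻¹) * p⁻¹ by group,
          S.central _ (S.conj_mem_Z (hWN ha) (hRZ hx)) p hp, mul_inv_cancel_right]
      rw [e0]
      rcases htri a ha with h | h | h
      · rw [hW₀cen a h x (S.le (hRZ hx))]; exact hx
      · rw [show a * x * a⁻¹ = w * (w⁻¹ * a * x * (w⁻¹ * a)⁻¹) * w⁻¹ by group,
          hW₀cen _ h x (S.le (hRZ hx))]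
        exact hwR x hx
      · rw [show a * x * a⁻¹ = w * (w * ((w * w)⁻¹ * a * x * ((w * w)⁻¹ * a)⁻¹) * w⁻¹) * w⁻¹ by group,
          hW₀cen _ h x (S.le (hRZ hx))]
        exact hwR _ (hwR x hx)
    have hUn : ∀ n ∈ NN, ∀ x ∈ U, n * x * n⁻¹ ∈ U := by
      intro n hn x hx
      obtain ⟨i, hi, hix⟩ := hact n hn
      refine ⟨hmemP n hn x hx.1, ?_⟩
      have hπn : π (n * x * n⁻¹) = π (i * x * i⁻¹) := by
        rcases hix x hx.1 with e' | e' <;> rw [e']
        rw [map_mul, hπc, mul_one]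
      show π (n * x * n⁻¹) ∈ Tu.map M.subtype
      rw [hπn]
      exact hconjT Tu hTuf i hi x hx.1 hx.2
    have hcU : c ∈ U := ⟨hcP, by
      show π c ∈ Tu.map M.subtype
      rw [hπc]; exact one_mem _⟩
    have hUne : ¬ U ≤ center G := by
      obtain ⟨q, hq', rfl⟩ := hMlift u
      intro hle
      have hqU : q ∈ U := ⟨hq', ⟨_, (hTu _).2 (Or.inr (Or.inl rfl)), rfl⟩⟩
      exact hu (Or.inl (Subtype.ext ((QuotientGroup.eq_one_iff q).2 (hle hqU))))
    have hdisj : ∀ x ∈ U, x ∈ R → x = 1 := by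
      intro x hxU hxR
      obtain ⟨h, hh, rfl⟩ := hxR
      obtain ⟨v, hv, hvh⟩ := hh.2
      obtain ⟨v', hv', hvx⟩ := hxU.2
      have e1 : v' = v⁻¹ * f v := by
        apply Subtype.ext
        show (v' : G ⧸ center G) = (v : G ⧸ center G)⁻¹ * (π w * v * (π w)⁻¹)
        rw [show (v' : G ⧸ center G) = π (h⁻¹ * (w * h * w⁻¹)) from hvx,
          show (v : G ⧸ center G) = π h from hvh]
        simp only [map_mul, map_inv]
      have e2 : v' = 1 := hTT v' (e1 ▸ mul_mem (inv_mem hv) (hTrf v hv)) hv'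
      rw [e2] at e1
      have hfv : f v = v := (inv_mul_eq_one.1 e1.symm).symm
      have hv1 := hfpf v hfv
      have hπh : π h = 1 := by
        rw [← show (v : G ⧸ center G) = π h from hvh, hv1]; rfl
      rcases hker h (S.le hh.1) hπh with rfl | rfl
      · group
      · rw [S.normalizer_fix (hWN hwW), inv_mul_cancel]
    have hRbot := S.invariant_pair_false hq hc U R inf_le_left hcU hUn hRZ hRn hdisj hUne
    obtain ⟨z, hz, hzr⟩ : ∃ z ∈ Z, π z = (r : G ⧸ center G) := hrZ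
    have hzH : z ∈ H := ⟨hz, ⟨r, (hTr r).2 (Or.inr (Or.inl rfl)), hzr.symm⟩⟩
    have hzR : z⁻¹ * (w * z * w⁻¹) ∈ R := ⟨z, hzH, rfl⟩
    rw [hRbot, mem_bot, inv_mul_eq_one] at hzR
    refine hr1 (hfpf r (Subtype.ext ?_))
    show π w * (r : G ⧸ center G) * (π w)⁻¹ = r
    rw [← hzr, ← map_inv, ← map_mul, ← map_mul, ← hzR]
  -- conclusion
  have hMne : Nontrivial M := ⟨lift x₀ hx₀P, 1, fun h => hx₀Z (hlp _ hx₀P (h ▸ one_mem _))⟩
  haveI := hq.2
  have hQna : ¬ IsMulCommutative (G ⧸ center G) := fun h => by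
    refine not_comm hq (top_le_iff.1 ?_)
    rw [← commutator_eq_top hq, _root_.commutator_def, commutator_le]
    intro a _ b _
    rw [← QuotientGroup.eq_one_iff, ← QuotientGroup.mk'_apply, map_commutatorElement,
      commutatorElement_eq_one_iff_mul_comm]
    exact h.is_comm.comm _ _
  rcases homocyclic_of_fpf (P.isPGroup'.map π) hMne f hfinj hfpf hrank with ⟨h4, hsq⟩ | ⟨n, hn, ⟨e⟩⟩
  · refine ⟨?_, ?_⟩
    · have hk : (π.comp (P : Subgroup G).subtype).ker = (zpowers c).subgroupOf (P : Subgroup G) := by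
        ext g
        rw [MonoidHom.mem_ker, mem_subgroupOf]
        constructor
        · intro h
          rcases hker _ g.2 h with e | e <;> rw [e]
          exacts [one_mem _, mem_zpowers c]
        · intro h
          show π (g : G) = 1
          rcases S.mem_one_c h with e | e <;> rw [e]
          exacts [map_one π, hπc]
      have h1 := card_mul_index (π.comp (P : Subgroup G).subtype).ker
      rw [index_ker, MonoidHom.range_comp, range_subtype] at h1
      rw [hk, Nat.card_congr (subgroupOfEquivOfLe (zpowers_le.2 hcP)).toEquiv, Nat.card_zpowers,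
        S.orderOf_c, show Nat.card ↥((P : Subgroup G).map π) = 4 from h4] at h1
      omega
    · have hK : IsKleinFour M := by
        refine ⟨h4, ?_⟩
        refine Nat.dvd_antisymm (Monoid.exponent_dvd_of_forall_pow_eq_one fun d => by
          rw [pow_two]; exact hsq d) ?_
        obtain ⟨d, hd⟩ := exists_ne (1 : M)
        rw [← orderOf_eq_prime (p := 2) (by rw [pow_two]; exact hsq d) hd]
        exact Monoid.order_dvd_exponent d
      exact IsKleinFour.nonempty_mulEquiv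
  · exact (CfsgLib.RankTwoTypes.not_homocyclic hQna
      (P.mapSurjective (f := π) (QuotientGroup.mk'_surjective _)) hn e).elim

end CfsgLib.GWCons.IndexFour
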