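/-
Quasisimple groups with a Sylow 2-subgroup whose centre has index four, from the classification of
perfect groups with dihedral Sylow 2-subgroups.
-/
import Cfsg.Agent.Lib.GWCons.IndexFour.Dihedral
import Cfsg.Agent.Lib.GWCons.IndexFour.Quat
import Cfsg.Agent.Lib.GWCons.RankOneCover
import Cfsg.Agent.Lib.SchurSmall18.AltSixSeven

set_option autoImplicit false
set_option linter.style.haveILetI false

open Subgroup
open scoped commutatorElement

namespace CfsgLib.GWCons.IndexFour

local instance : Fact (Nat.Prime 2) := ⟨Nat.prime_two⟩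

open CfsgLib.GWCons.RankOneCover (DihedralClassification)

universe u

theorem isPerfect_of_surj {A B : Type*} [Group A] [Group B] (hA : Group.IsPerfect A) (f : A →* B)
    (hf : Function.Surjective f) : Group.IsPerfect B := by
  rw [Group.isPerfect_def] at hA ⊢
  rw [← CfsgLib.SchurCover.map_commutator_eq f hf, hA, ← MonoidHom.range_eq_map,
    MonoidHom.range_eq_top.2 hf]

/-- A perfect central extension of `A₇` of odd kernel is `A₇` or has kernel of order three. -/
theorem alt_seven_cover {G : Type} [Group G] [Finite G] [Group.IsPerfect G]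
    (σ : G →* alternatingGroup (Fin 7)) (hs : Function.Surjective σ) (hc : σ.ker ≤ center G)
    (hodd : Odd (Nat.card σ.ker)) : Nat.card σ.ker = 1 ∨ Nat.card σ.ker = 3 := by
  have hstem : Cfsg.IsStemExtension σ :=
    ⟨hs, hc, by rw [Group.isPerfect_def.1 (inferInstance : Group.IsPerfect G)]; exact le_top⟩
  obtain ⟨π, hπ⟩ := CfsgLib.SchurSmall18.multiplier_seven.2 G σ hstem
  have hd : Nat.card σ.ker ∣ 6 := by
    have := Subgroup.card_dvd_of_surjective π hπ
    simpa using this
  have hle := Nat.le_of_dvd (by norm_num) hd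
  interval_cases Nat.card σ.ker <;> simp_all (config := {decide := true})

theorem main {G : Type u} [Group G] [Finite G] (hGW : DihedralClassification.{u})
    (hq : Cfsg.IsQuasisimple G) (P : Sylow 2 G) (hna : ¬ IsMulCommutative (P : Subgroup G))
    (hZ : (Subgroup.center (P : Subgroup G)).index = 4) :
    Nat.card (P : Subgroup G) = 8 ∧
      (Nonempty (G ≃* alternatingGroup (Fin 7)) ∨
       (Nat.card (Subgroup.center G) = 3 ∧ Nonempty (G ⧸ Subgroup.center G ≃* alternatingGroup (Fin 7))) ∨
       ∃ (F : Type) (_ : Field F) (_ : Fintype F), Odd (Fintype.card F) ∧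
         Nonempty (G ⧸ Subgroup.center G ≃* Matrix.ProjectiveSpecialLinearGroup (Fin 2) F)) := by
  haveI := hq.1
  obtain ⟨Z, c, S⟩ := exists_setup P hna hZ
  have ht := S.orderOf_c
  by_cases hc : c ∈ center G
  · -- a four-group in the central quotient
    obtain ⟨h8, ⟨e⟩⟩ := S.quaternion hq hc
    refine ⟨h8, Or.inr (Or.inr ?_)⟩
    haveI := hq.2
    haveI : Group.IsPerfect (G ⧸ center G) :=
      isPerfect_of_surj hq.1 (QuotientGroup.mk' (center G))
        (QuotientGroup.mk'_surjective _)
    let Pb : Sylow 2 (G ⧸ center G) :=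
      P.mapSurjective (f := QuotientGroup.mk' (center G)) (QuotientGroup.mk'_surjective _)
    have hcore : Cfsg.oddCore (G ⧸ center G) = ⊥ := by
      rcases (inferInstance : (Cfsg.oddCore (G ⧸ center G)).Normal).eq_bot_or_eq_top with h | h
      · exact h
      · exfalso
        refine CfsgLib.PCore.not_dvd_card_pPrimeCore (p := 2) (G := G ⧸ center G) ?_
        rw [show Cfsg.pPrimeCore 2 (G ⧸ center G) = ⊤ from h, card_top]
        refine Dvd.dvd.trans ?_ (card_subgroup_dvd_card (Pb : Subgroup (G ⧸ center G)))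
        rw [Sylow.coe_mapSurjective, Nat.card_congr e.toEquiv, DihedralGroup.nat_card]
        norm_num
    let q := (QuotientGroup.quotientMulEquivOfEq hcore).trans QuotientGroup.quotientBot
    rcases hGW (G ⧸ center G) Pb 2 le_rfl ⟨e⟩ with ⟨F, i1, i2, hodd, -, ⟨ψ⟩⟩ | ⟨⟨ψ⟩⟩
    · exact ⟨F, i1, i2, hodd, ⟨q.symm.trans ψ⟩⟩
    · exfalso
      have hcard : Nat.card (G ⧸ center G) = 2520 := by
        rw [Nat.card_congr (q.symm.trans ψ).toEquiv, CfsgLib.SchurSmall18.card_seven]
      have h := (Pb : Subgroup (G ⧸ center G)).card_mul_index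
      have h2 := Pb.not_dvd_index
      rw [Sylow.coe_mapSurjective] at h h2
      rw [Nat.card_congr e.toEquiv, DihedralGroup.nat_card, hcard] at h
      exact h2 (by omega)
  · -- a dihedral Sylow subgroup
    have h2 : ∀ z ∈ (P : Subgroup G), z ∈ center G → z = 1 := fun z hzP hz => by
      rcases S.center_cases hq hz hzP with h | h
      · exact h
      · exact absurd (h ▸ hz) hc
    obtain ⟨e⟩ := S.dihedral hq h2
    refine ⟨by rw [Nat.card_congr e.toEquiv, DihedralGroup.nat_card], ?_⟩
    have hcore : Cfsg.oddCore G = center G := by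
      refine le_antisymm (core_le_center hq ht)
        (CfsgLib.PCore.le_pPrimeCore_of_not_dvd (inferInstance : (center G).Normal) fun hd => ?_)
      obtain ⟨⟨z, hz⟩, hzo⟩ := exists_prime_orderOf_dvd_card' 2 hd
      rw [orderOf_mk] at hzo
      have hzP : z ∈ (P : Subgroup G) := sylow_absorbs
        (IsPGroup.of_card (n := 1) (by rw [Nat.card_zpowers, hzo, pow_one]))
        (centralizer_le_normalizer _ (mem_centralizer_iff.2 fun g _ => mem_center_iff.1 hz g))
      rw [h2 z hzP hz, orderOf_one] at hzo
      omega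
    rcases hGW G P 4 (by norm_num) ⟨e⟩ with ⟨F, i1, i2, hodd, -, ⟨ψ⟩⟩ | ⟨⟨ψ⟩⟩
    · exact Or.inr (Or.inr ⟨F, i1, i2, hodd, ⟨(QuotientGroup.quotientMulEquivOfEq hcore).symm.trans ψ⟩⟩)
    · let φ : G ⧸ center G ≃* alternatingGroup (Fin 7) :=
        (QuotientGroup.quotientMulEquivOfEq hcore).symm.trans ψ
      have hZodd : Odd (Nat.card (center G)) := by
        rw [← Nat.not_even_iff_odd, even_iff_two_dvd, ← hcore]
        exact CfsgLib.PCore.not_dvd_card_pPrimeCore
      -- move to the bottom universe
      let G' := Shrink.{0} G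
      let ε : G' ≃* G := Shrink.mulEquiv
      haveI : Group.IsPerfect G' :=
        isPerfect_of_surj hq.1 ε.symm.toMonoidHom ε.symm.surjective
      let σ : G' →* alternatingGroup (Fin 7) :=
        (φ.toMonoidHom.comp (QuotientGroup.mk' (center G))).comp ε.toMonoidHom
      have hmem : ∀ x : G', x ∈ σ.ker ↔ ε x ∈ center G := fun x => by
        rw [MonoidHom.mem_ker]
        show φ (QuotientGroup.mk' (center G) (ε x)) = 1 ↔ _
        rw [MulEquiv.map_eq_one_iff, QuotientGroup.mk'_apply, QuotientGroup.eq_one_iff]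
      have hker : Nat.card σ.ker = Nat.card (center G) :=
        Nat.card_congr (ε.toEquiv.subtypeEquiv hmem)
      have hs : Function.Surjective σ := fun a => by
        obtain ⟨g, hg⟩ := QuotientGroup.mk'_surjective (center G) (φ.symm a)
        refine ⟨ε.symm g, ?_⟩
        show φ (QuotientGroup.mk' (center G) (ε (ε.symm g))) = a
        rw [ε.apply_symm_apply, hg, φ.apply_symm_apply]
      have hcker : σ.ker ≤ center G' := fun x hx => mem_center_iff.2 fun y =>
        ε.injective (by rw [map_mul, map_mul]; exact mem_center_iff.1 ((hmem x).1 hx) (ε y))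
      rcases alt_seven_cover σ hs hcker (by rw [hker]; exact hZodd) with h | h <;> rw [hker] at h
      · exact Or.inl ⟨((QuotientGroup.quotientMulEquivOfEq (card_eq_one.1 h)).trans
          QuotientGroup.quotientBot).symm.trans φ⟩
      · exact Or.inr (Or.inl ⟨h, ⟨φ⟩⟩)

end CfsgLib.GWCons.IndexFour
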